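import Cfsg.Agent.INV.O7.Mod
import Cfsg.Agent.INV.YK.Fus
import Cfsg.Agent.FUS.SylIn
import Cfsg.Agent.INV.KA.Surj
import Cfsg.Agent.SIG.PBase

/-!
Groups with Sylow 2-subgroups of type `A₁₂`: definitions.

Names in `M`: `al = inl (vv 63) = inl (vi 6)`, `inl (vv 15)`, `inl (vv 48)` are the central involutions.
`E0 = ⟨vv 3, vv 12, vv 48, tt 1, tt 2⟩` is the normal subgroup `2⁵`, `T0` the subgroup of index 2 of the
elements with `sg m = false`. `mu` embeds `M` into `YK.HH = W(D₆) = C_{A₁₂}(alP)`, it maps `E0` onto the sign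
changes and the `vi i`, `i < 6`, to reflections. A *frame* is an isomorphism `φ` from `M` onto a Sylow
2-subgroup of `G`; `FF φ` is the image of `V`, its conjugates are the *members*, `Ph φ` is its automizer.
-/

set_option autoImplicit false

namespace CL.O7
open Subgroup CL.Fus Equiv

def sgV (p : V → Bool) (h : p 1 = true ∧ ∀ a, p a = true → ∀ b, p b = true → p (a * b) = true) :
    Subgroup V where
  carrier := {v | p v = true}
  one_mem' := h.1
  mul_mem' := fun ha hb => h.2 _ ha _ hb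
  inv_mem' := id

/-- `⟨vv 3, vv 12, vv 48⟩` -/
def Z0 : Subgroup V := sgV (fun v => v.n &&& 21 == (v.n / 2) &&& 21) (by decide +kernel)

instance (v : V) : Decidable (v ∈ Z0) := inferInstanceAs (Decidable (_ = true))

theorem av_Z0 : ∀ t : TT, t.n < 4 → ∀ v ∈ Z0, av t v = v := by decide +kernel

def E0 : Subgroup M where
  carrier := {m | m.v ∈ Z0 ∧ m.t.n < 4}
  one_mem' := ⟨one_mem _, by decide⟩
  mul_mem' := fun ha hb => ⟨by rw [M.mul_v, av_Z0 _ ha.2 _ hb.1]; exact mul_mem ha.1 hb.1,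
    (by decide +kernel : ∀ s t : TT, s.n < 4 → t.n < 4 → (s * t).n < 4) _ _ ha.2 hb.2⟩
  inv_mem' := fun ha => have := (by decide +kernel : ∀ s : TT, s.n < 4 → s⁻¹.n < 4) _ ha.2
    ⟨by rw [M.inv_v, av_Z0 _ this _ ha.1]; exact ha.1, this⟩

theorem mem_E0 {m : M} : m ∈ E0 ↔ m.v ∈ Z0 ∧ m.t.n < 4 := Iff.rfl
instance (m : M) : Decidable (m ∈ E0) := inferInstanceAs (Decidable (m.v ∈ Z0 ∧ m.t.n < 4))

/-- does `m.v` contain the point `6` -/
def sg (m : M) : Bool := has m.v 6

theorem sg_mul (x y : M) : sg (x * y) = xor (sg x) (sg y) := by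
  have : ∀ t v, has (av t v) 6 = has v 6 := by decide +kernel
  rw [sg, M.mul_v, has_mul, this]; rfl

def T0 : Subgroup M where
  carrier := {m | sg m = false}
  one_mem' := by decide
  mul_mem' := fun {a b} (ha : sg a = false) (hb : sg b = false) => by
    show sg (a * b) = false
    rw [sg_mul, ha, hb]; rfl
  inv_mem' := fun {a} (ha : sg a = false) => by
    have := sg_mul a⁻¹ a
    rwa [inv_mul_cancel, ha, Bool.xor_false, eq_comm] at this

theorem mem_T0 {m : M} : m ∈ T0 ↔ sg m = false := Iff.rfl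
instance (m : M) : Decidable (m ∈ T0) := inferInstanceAs (Decidable (sg m = false))

def al : M := inl (vv 63)

theorem al_eq : al = inl (vi 6) := by decide +kernel
theorem al_comm : ∀ m : M, m * al = al * m := by decide +kernel
theorem al_sq : al * al = 1 := by decide +kernel
theorem central_iff : ∀ m : M, (∀ x : M, x * m = m * x) ↔
    m = 1 ∨ m = al ∨ m = inl (vv 15) ∨ m = inl (vv 48) := by decide +kernel
theorem E0_sq : ∀ m ∈ E0, m * m = 1 := by decide +kernel
theorem E0_conj : ∀ m ∈ E0, ∀ x : M, x * m * x⁻¹ ∈ E0 := by decide +kernel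
theorem E0_cen : ∀ x : M, (∀ m ∈ E0, x * m = m * x) ↔ x ∈ E0 := by decide +kernel
theorem card_E0 : Nat.card E0 = 32 := by
  rw [Nat.card_eq_fintype_card, Fintype.card_subtype]; decide +kernel

/-- the twist `m ↦ m * al ^ sg m` -/
def twM : M →* M := MonoidHom.mk' (fun m => bif sg m then m * al else m) fun a b => by
  rw [sg_mul]
  cases sg a <;> cases sg b <;> simp only [cond_true, cond_false, Bool.xor_self, Bool.false_xor, Bool.xor_false]
  · rw [mul_assoc]
  · rw [mul_assoc, mul_assoc, al_comm]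
  · rw [mul_assoc, ← mul_assoc al, ← al_comm b, mul_assoc b, al_sq, mul_one]

theorem twM_apply (m : M) : twM m = bif sg m then m * al else m := rfl
theorem twM_twM : ∀ m, twM (twM m) = m := by simp only [twM_apply]; decide +kernel
theorem twM_inj : Function.Injective twM := Function.LeftInverse.injective twM_twM

/-! The embedding into `W(D₆)`. -/

def PV : ℕ := 0xab8967452301ba9876540123ba9876541032ab8967453210ba9845673210ab8954761032ab8954760123ba9845672301ba9854763210ab8945671032ab8945670123ba9854762301ab8976542301ba9867450123ba9867451032ab897654321089ab7654321098ba6745103298ba6745012389ab7654230198ba5476230189ab4567012389ab4567103298ba5476321098ba4567230189ab5476012389ab5476103298ba4567321089ab6745321098ba7654103298ba7654012389ab6745230198ba7654321089ab6745103289ab6745012398ba7654230189ab5476230198ba4567012398ba4567103289ab5476321089ab4567230198ba5476012398ba5476103289ab4567321098ba6745321089ab7654103289ab7654012398ba67452301ba9867452301ab8976540123ab8976541032ba9867453210ab8945673210ba9854761032ba9854760123ab8945672301ab8954763210ba9845671032ba9845670123ab8954762301ba9876542301ab8967450123ab8967451032ba9876543210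
def PR : ℕ := 0xab9832106754ab9823107654ba9823106754ba9832107654ab9867543210ab9876542310ba9867542310ba9876543210

def qv (v : V) (x : Fin 12) : Fin 12 :=
  ⟨Nat.mod (Nat.mod (Nat.shiftRight PV (Nat.mul 4 (Nat.add (Nat.mul 12 v.n) x.1))) 16) 12, Nat.mod_lt _ (by decide)⟩
def qt (t : TT) (x : Fin 12) : Fin 12 :=
  ⟨Nat.mod (Nat.mod (Nat.shiftRight PR (Nat.mul 4 (Nat.add (Nat.mul 12 t.n) x.1))) 16) 12, Nat.mod_lt _ (by decide)⟩
/-- the action on twelve points -/
def q (m : M) (x : Fin 12) : Fin 12 := qv m.v (qt m.t x)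

instance : MulAction M (Fin 12) where
  smul := q
  one_smul := by decide +kernel
  mul_smul a b x := by
    have h1 : ∀ u v x, qv (u * v) x = qv u (qv v x) := by decide +kernel
    have h2 : ∀ s t x, qt (s * t) x = qt s (qt t x) := by decide +kernel
    have h3 : ∀ t v x, qv (av t v) (qt t x) = qt t (qv v x) := by decide +kernel
    show qv (a.v * av a.t b.v) (qt (a.t * b.t) x) = qv a.v (qt a.t (qv b.v (qt b.t x)))
    rw [h1, h2, h3]

def mu0 : M →* Perm (Fin 12) := MulAction.toPermHom M (Fin 12)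

theorem mu0_apply (m : M) (x : Fin 12) : mu0 m x = q m x := rfl

theorem mu0_sign (m : M) : Perm.sign (mu0 m) = 1 := by
  have h0 : ∀ i, Perm.sign (mu0 (inl (e i))) = 1 := by
    simp only [Perm.sign_eq_prod_prod_Ioi, mu0_apply]; decide +kernel
  have h1 : ∀ v, Perm.sign (mu0 (inl v)) = 1 :=
    DFunLike.congr_fun (hom_ext (f := Perm.sign.comp (mu0.comp inl)) (g := 1) fun i => by simpa using h0 i)
  have h2 : ∀ t, Perm.sign (mu0 (inr t)) = 1 := by
    simp only [Perm.sign_eq_prod_prod_Ioi, mu0_apply]; decide +kernel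
  rw [show m = inl m.v * inr m.t from (inl_mul_inr _ _).symm, map_mul, map_mul, h1, h2, mul_one]

theorem mu0_inj : Function.Injective mu0 := by
  refine (injective_iff_map_eq_one _).2 fun m h => ?_
  exact (by decide +kernel : ∀ m : M, (∀ x, q m x = x) → m = 1) m fun x => DFunLike.congr_fun h x

def mu : M →* YK.HH := mu0.codRestrict _ fun m => YK.mem_HH.2 ⟨mu0_sign m, Equiv.ext fun x => Fin.ext (by
  have : ∀ (m : M) (x y : Fin 12), y.val = x.val ^^^ 1 → (q m y).val = (q m x).val ^^^ 1 := by decide +kernel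
  rw [Perm.mul_apply, Perm.mul_apply, YK.alP_val]
  exact this m x _ (YK.alP_val x))⟩

theorem mu_apply (m : M) (x : Fin 12) : (mu m).1 x = q m x := rfl
theorem mu_inj : Function.Injective mu := fun _ _ h => mu0_inj (congrArg Subtype.val h)

/-- the code (`YK.code`) of `mu m` -/
noncomputable def cd (m : M) : ℕ := YK.pk (q m 0) (q m 2) (q m 4) (q m 6) (q m 8) (q m 10)

theorem code_mu (m : M) : YK.code (mu m) = cd m := rfl

theorem mu_al : mu al = YK.al := (YK.code_iff _ _).2 (by rw [code_mu, YK.code_al]; decide +kernel)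

theorem sign_pp (m : M) : Perm.sign (YK.pp (mu m)) = 1 ↔ sg m = false := by
  have h : ∀ (m : M) (i : Fin 6), YK.pp (mu m) i = ⟨(q m ⟨2 * i, by omega⟩).val / 2, by omega⟩ := fun _ _ => rfl
  simp only [Perm.sign_eq_prod_prod_Ioi, h]
  revert m
  decide +kernel

theorem tw_mu (m : M) : YK.tw (mu m) = mu (twM m) := by
  rw [twM_apply]
  cases h : sg m
  · exact YK.tw_pos ((sign_pp m).2 h)
  · rw [YK.tw_neg fun e => by simp [(sign_pp m).1 e] at h, cond_true, map_mul, mu_al]

theorem mem_E0_iff : ∀ m : M, m ∈ E0 ↔ ∀ x, (q m x).val / 2 = x.val / 2 := by decide +kernel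

/-- the class of an involution in `A₁₂` -/
def cA (m : M) : ℕ := ((List.finRange 12).filter fun x => q m x != x).length / 4

/-- `ac.range` is a Sylow 2-subgroup of `Φ` -/
abbrev Sy (Φ : Subgroup (MulAut V)) : Prop := SylIn 2 ac.range Φ

variable {G : Type*} [Group G]

structure Fr (φ : M →* G) : Prop where
  inj : Function.Injective φ
  syl : SylIn 2 φ.range ⊤

/-- the image of `V` -/
def FF (φ : M →* G) : Subgroup G := (φ.comp inl).range

/-- the image of `E0` -/
def EE (φ : M →* G) : Subgroup G := E0.map φ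

theorem mem_FF {φ : M →* G} {x : G} : x ∈ FF φ ↔ ∃ v, φ (inl v) = x := Iff.rfl
theorem mem_EE {φ : M →* G} {x : G} : x ∈ EE φ ↔ ∃ m ∈ E0, φ m = x := Iff.rfl

/-- the conjugate frame -/
def cj (g : G) (φ : M →* G) : M →* G := (MulAut.conj g).toMonoidHom.comp φ

@[simp] theorem cj_apply (g : G) (φ : M →* G) (m : M) : cj g φ m = g * φ m * g⁻¹ := rfl

theorem cj_cj (g k : G) (φ : M →* G) : cj g (cj k φ) = cj (g * k) φ :=
  MonoidHom.ext fun m => by simp [mul_assoc]

theorem cj_one (φ : M →* G) : cj 1 φ = φ := MonoidHom.ext fun m => by simp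

theorem FF_cj (g : G) (φ : M →* G) : FF (cj g φ) = (FF φ).map (MulAut.conj g).toMonoidHom := by
  rw [FF, FF, MonoidHom.map_range]; rfl

theorem EE_cj (g : G) (φ : M →* G) : EE (cj g φ) = (EE φ).map (MulAut.conj g).toMonoidHom := by
  rw [EE, EE, map_map]; rfl

theorem range_cj (g : G) (φ : M →* G) : (cj g φ).range = φ.range.map (MulAut.conj g).toMonoidHom := by
  rw [MonoidHom.map_range]; rfl

/-- the conjugates of `FF φ` -/
def Mem (φ : M →* G) (A : Subgroup G) : Prop := ∃ g, A = FF (cj g φ)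

/-- the automizer -/
def Ph (φ : M →* G) : Subgroup (MulAut V) where
  carrier := {ψ | ∃ g : G, ∀ v, g * φ (inl v) * g⁻¹ = φ (inl (ψ v))}
  one_mem' := ⟨1, fun v => by simp⟩
  mul_mem' := by
    rintro a b ⟨g, hg⟩ ⟨k, hk⟩
    exact ⟨g * k, fun v => by rw [MulAut.mul_apply, ← hg, ← hk]; group⟩
  inv_mem' := by
    rintro a ⟨g, hg⟩
    exact ⟨g⁻¹, fun v => by
      conv_lhs => rw [← MulAut.apply_inv_self V a v, ← hg]
      group⟩

theorem mem_Ph {φ : M →* G} {ψ : MulAut V} :
    ψ ∈ Ph φ ↔ ∃ g : G, ∀ v, g * φ (inl v) * g⁻¹ = φ (inl (ψ v)) := Iff.rfl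

/-- the involution fusion pattern given by `c` -/
def PatM (φ : M →* G) (c : M → ℕ) : Prop :=
  ∀ m m' : M, m * m = 1 → m ≠ 1 → m' * m' = 1 → m' ≠ 1 → (IsConj (φ m) (φ m') ↔ c m = c m')

/-- `π` maps `N` onto `W(D₆)`, with kernel of odd order, compatibly with `φ` -/
structure PiH (φ : M →* G) (N : Subgroup G) (π : N →* YK.HH) : Prop where
  surj : Function.Surjective π
  odd : Odd (Nat.card π.ker)
  le : φ.range ≤ N
  hom : ∀ (m : M) (h : φ m ∈ N), π ⟨φ m, h⟩ = mu m

/-- `N(EE φ)` is `W(D₆)` modulo a normal subgroup of odd order -/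
def PiE (φ : M →* G) : Prop := ∃ π, PiH φ (normalizer (EE φ : Set G)) π

/-- the seven commuting conjugates, `tv φ 0 = φ al` -/
def tv (φ : M →* G) (i : Fin 7) : G := φ (inl (vi i.rev))

/-- the case of `Sp₆(2)` and `Ω₇(q)`: the conjugates of `al` in the Sylow subgroup are the `vi i` -/
structure Sev (φ : M →* G) : Prop extends Fr φ where
  pi : PiE φ
  cls : ∀ m, IsConj (φ al) (φ m) ↔ ∃ i, m = inl (vi i)

/-- the case of `Ω₇(q)`; `K` has index 2 in `C(al)` -/
structure Omc (φ : M →* G) (K : Subgroup G) : Prop extends Sev φ where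
  le : K ≤ centralizer {φ al}
  idx : K.relIndex (centralizer {φ al}) = 2
  mem : ∀ m, φ m ∈ K ↔ m ∈ T0
  one : ∀ m ∈ T0, m * m = 1 → m ≠ 1 → m ≠ al →
    ∃ g ∈ K, g * φ m * g⁻¹ = φ (inl (vv 3)) ∨ g * φ m * g⁻¹ = φ (inl (vv 60))
  alt : ∀ σ : Perm (Fin 7), pv σ ∈ Ph φ ↔ Perm.sign σ = 1

/-- the local facts on `C(t 0) / O(C(t 0))` that the signalizer argument uses -/
structure Loc (t : Fin 7 → G) : Prop where
  lc2 : ∀ j, j ≠ 0 → PComp.opOf 2 (centralizer {t 0} ⊓ centralizer {t j}) ≤ PComp.opOf 2 (centralizer {t 0})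
  lc3 : PComp.opOf 2 (centralizer {t 0} ⊓ centralizer {t 1} ⊓ centralizer {t 2}) ≤ PComp.opOf 2 (centralizer {t 0})
  lc4 : ∀ i j k, i ≠ 0 → j ≠ 0 → k ≠ 0 → i ≠ j → i ≠ k → j ≠ k →
    PComp.opOf 2 (centralizer {t 0} ⊓ centralizer {t i * t j} ⊓ centralizer {t i * t k}) ≤
      PComp.opOf 2 (centralizer {t 0})
  gen : centralizer {t 0} ≤ PComp.opOf 2 (centralizer {t 0}) ⊔ normalizer (closure (Set.range t) : Set G) ⊔
    (centralizer {t 0} ⊓ centralizer {t 1} ⊓ centralizer {t 2})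

section
variable {φ : M →* G}

theorem tv_zero (φ : M →* G) : tv φ 0 = φ al := by rw [al_eq]; rfl

theorem tv_rev (φ : M →* G) (i : Fin 7) : tv φ i.rev = φ (inl (vi i)) := by rw [tv, Fin.rev_rev]

theorem closure_tv (φ : M →* G) : closure (Set.range (tv φ)) = FF φ := by
  refine le_antisymm ((closure_le _).2 (by rintro _ ⟨i, rfl⟩; exact ⟨_, rfl⟩)) ?_
  rintro _ ⟨v, rfl⟩
  have h1 : ∀ i, φ (inl (vi i)) ∈ closure (Set.range (tv φ)) := fun i => subset_closure ⟨_, tv_rev φ i⟩
  have h2 : ∀ i j, φ (inl (bt (e i) v j)) ∈ closure (Set.range (tv φ)) := fun i j => by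
    unfold bt
    cases v.n.testBit j
    · simp
    · rw [cond_true, e_eq, ← vi_mul, map_mul, map_mul]; exact mul_mem (h1 _) (h1 _)
  rw [MonoidHom.comp_apply, ← lin_id v, lin_apply]
  simp only [map_mul]
  exact mul_mem (mul_mem (mul_mem (mul_mem (mul_mem (h2 _ _) (h2 _ _)) (h2 _ _)) (h2 _ _)) (h2 _ _)) (h2 _ _)

theorem mem_self (φ : M →* G) : Mem φ (FF φ) := ⟨1, by rw [cj_one]⟩

theorem Mem.map {A : Subgroup G} (h : Mem φ A) (g : G) : Mem φ (A.map (MulAut.conj g).toMonoidHom) := by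
  obtain ⟨k, rfl⟩ := h
  exact ⟨g * k, by rw [← FF_cj, cj_cj]⟩

theorem mem_cj (g : G) {A : Subgroup G} : Mem (cj g φ) A ↔ Mem φ A :=
  ⟨fun ⟨k, h⟩ => ⟨k * g, by rw [h, cj_cj]⟩, fun ⟨k, h⟩ => ⟨k * g⁻¹, by simp [h, cj_cj]⟩⟩

theorem FF_le (φ : M →* G) : FF φ ≤ φ.range := by rintro _ ⟨v, rfl⟩; exact ⟨_, rfl⟩

theorem EE_le (φ : M →* G) : EE φ ≤ φ.range := map_le_range _ _

theorem FF_eq_map (φ : M →* G) : FF φ = inl.range.map φ := (MonoidHom.map_range _ _).symm

theorem conj_F (φ : M →* G) (m : M) (v : V) : φ m * φ (inl v) * (φ m)⁻¹ = φ (inl (av m.t v)) := by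
  rw [← conj_inl, map_mul, map_mul, map_inv]

theorem ac_mem_Ph (φ : M →* G) (t : TT) : ac t ∈ Ph φ := ⟨φ (inr t), fun v => conj_F φ _ v⟩

theorem Mem.sq {A : Subgroup G} (h : Mem φ A) {x : G} (hx : x ∈ A) : x * x = 1 := by
  obtain ⟨g, rfl⟩ := h
  obtain ⟨v, rfl⟩ := mem_FF.1 hx
  rw [← map_mul, ← map_mul, V.mul_self, map_one, map_one]

theorem Mem.comm {A : Subgroup G} (h : Mem φ A) {x y : G} (hx : x ∈ A) (hy : y ∈ A) :
    Commute x y := by
  obtain ⟨g, rfl⟩ := h
  obtain ⟨v, rfl⟩ := mem_FF.1 hx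
  obtain ⟨w, rfl⟩ := mem_FF.1 hy
  exact ((Commute.all v w).map inl).map _

theorem Fr.mem_FF_iff (h : Fr φ) {m : M} : φ m ∈ FF φ ↔ m.t = 1 :=
  ⟨fun ⟨v, e⟩ => by rw [← h.inj e]; rfl, fun e => ⟨_, congrArg φ (eq_inl e).symm⟩⟩

theorem Fr.mem_EE_iff (h : Fr φ) {m : M} : φ m ∈ EE φ ↔ m ∈ E0 := mem_map_iff_mem h.inj

theorem Fr.inj_inl (h : Fr φ) : Function.Injective (φ.comp inl) := h.inj.comp inl_inj

theorem Fr.card_FF (h : Fr φ) : Nat.card (FF φ) = 64 := by
  rw [FF, MonoidHom.range_eq_map, card_map_of_injective h.inj_inl, card_top, V.card]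

theorem Fr.card_EE (h : Fr φ) : Nat.card (EE φ) = 32 := by
  rw [EE, card_map_of_injective h.inj, card_E0]

theorem Fr.card_range (h : Fr φ) : Nat.card φ.range = 2 ^ 9 := by
  rw [MonoidHom.range_eq_map, card_map_of_injective h.inj, card_top, M.card]

theorem Fr.cj (h : Fr φ) (g : G) : Fr (cj g φ) :=
  ⟨(MulAut.conj g).injective.comp h.inj, by rw [range_cj]; exact h.syl.conj (mem_top g)⟩

theorem Fr.comp (h : Fr φ) {τ : M →* M} (hτ : Function.Injective τ) : Fr (φ.comp τ) :=
  ⟨h.inj.comp hτ, by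
    rw [MonoidHom.range_comp, MonoidHom.range_eq_top.2 (Finite.injective_iff_surjective.1 hτ),
      ← MonoidHom.range_eq_map]
    exact h.syl⟩

theorem Fr.card_mem (h : Fr φ) {A : Subgroup G} (hA : Mem φ A) : Nat.card A = 64 := by
  obtain ⟨g, rfl⟩ := hA
  exact (h.cj g).card_FF

theorem Fr.pg_mem (h : Fr φ) {A : Subgroup G} (hA : Mem φ A) : IsPGroup 2 A :=
  IsPGroup.of_card (n := 6) (h.card_mem hA)

theorem fr_of_card [Finite G] (hi : Function.Injective φ) {k : ℕ} (hk : Nat.card G = 2 ^ 9 * k) (ho : ¬ 2 ∣ k) :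
    Fr φ := by
  have hc : Nat.card φ.range = 2 ^ 9 := by
    rw [MonoidHom.range_eq_map, card_map_of_injective hi, card_top, M.card]
  refine ⟨hi, sylIn_of_not_dvd_relIndex le_top (IsPGroup.of_card hc) ?_⟩
  have := φ.range.card_mul_index
  rw [hc, hk] at this
  rwa [relIndex_top_right, Nat.eq_of_mul_eq_mul_left (by norm_num) this]

end

/-- the model is a Sylow 2-subgroup of `A₁₂` -/
theorem exists_A12 : ∃ ν : M →* ↥(alternatingGroup (Fin 12)), Fr ν ∧ PatM ν cA := by
  have sg : ∀ m, mu0 m ∈ alternatingGroup (Fin 12) := fun m => Perm.mem_alternatingGroup.2 (mu0_sign m)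
  have supp : ∀ m : M, m * m = 1 → (mu0 m).support.card = 4 * cA m := fun m h => by
    have h1 : 4 ∣ (mu0 m).support.card := KA.four_dvd_card_support (s := ⟨mu0 m, sg m⟩)
      (Subtype.ext (by show mu0 m * mu0 m = 1; rw [← map_mul, h, map_one]))
    have h2 : (mu0 m).support.card = ((List.finRange 12).filter fun x => q m x != x).length := by
      show (List.filter _ (List.finRange 12)).length = _
      congr 1
      exact List.filter_congr fun x _ => by by_cases e : q m x = x <;> simp [mu0_apply, bne, e]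
    rw [h2] at h1 ⊢
    rw [cA]; omega
  refine ⟨mu0.codRestrict _ sg, fr_of_card (k := 467775)
    (fun a b h => mu0_inj (congrArg Subtype.val h)) ?_ (by norm_num), fun m m' h _ h' _ => ⟨fun e => ?_,
      fun e => KA.isConj_of_card_support (by rw [← map_mul, h, map_one]) (by rw [← map_mul, h', map_one])
        (((supp m h).trans (by rw [e])).trans (supp m' h').symm)⟩⟩
  · rw [nat_card_alternatingGroup, Nat.card_fin]; decide +kernel
  · obtain ⟨g, hg⟩ := isConj_iff.1 e
    have : mu0 m' = (g : Perm (Fin 12)) * mu0 m * (g : Perm (Fin 12))⁻¹ := (congrArg Subtype.val hg).symm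
    have h2 := supp m' h'
    rw [this, Perm.card_support_conj, supp m h] at h2
    omega

end CL.O7
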