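/- S3101, the case `Ω₇(q)`: from the fusion data `Omc` to `Loc` and to the identification of `G`. -/
import Cfsg.Agent.INV.O7.KMain
import Cfsg.Agent.INV.O7.REnd
import Cfsg.Agent.INV.O7.Hh
import Cfsg.Agent.FGS.CycSyl

set_option autoImplicit false

namespace CL.O7

open Subgroup Equiv Cfsg CL.O6 CL.O6.I
open CL.P4S (Qt im)
open scoped commutatorElement

def KA : ℕ := 0xa7e5e9994eec2bbd09a1e6e8198e8c1ba505abe32a98fe547b931dade02b183e344b8b11aee2abd89e1c6f8118a8e1aa585e7c5f9914a2e468d92ea43faf0ca4e76959eec40fb70027a5c98946e829bc0921a6c809868819a4052ba30a88f65079921d2da00b083630498a112ea28bc896186d801828a18a4856785d981422a448c926a0c1ae0c24a74949e6c00db600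
def LA : ℕ := 0xb20005b018718001a7580a20005301cf8809600049860004101efc8001e7d808200043920004b01c7980a60005101af480018f080b600059cc000640152b000172f00dc0006c013a600f80007ee800076011a2000112300ec00074fc0007c0132700d80006e017ae00015aa00c800066ea00077013e680011e280fa0007f015ea80da0006fca00067017ee800176f80ce00065de0006d0156b80fe0007d01163800136780ee00075800004201c390001e3d00900004a0183100a000052b00005a01a350001ab400b400058a400050018b000940004801ebc0001cb8008400040320001b008518000a5580220001300cd8801600009060000100edc8000e5d800200003120000b00c5980260001100ad480008d08036000194c000240050b000070f005c0002c0038600780003e6800036001820000103006c000347c0003c0030700580002e0078e000058a0048000266a00037003c680001c2807a0003f005ca805a0002f4a00027007ce800074f804e000255e0002d0054b807e0003d001438000347806e00035000000200c190000e1d00100000a00811002000012300001a00a150000a9400340001824000100089000140000800e9c0000c98000400000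

/-- a section of the isomorphism `T0 / ⟨al⟩ ≃ I (ZMod 4)` -/
def ka (w : I (ZMod 4)) : M :=
  let n := Nat.shiftRight KA (9 * (w.p.val + 4 * w.q.val + 16 * w.e.toNat + 32 * w.f.toNat + 64 * w.d.toNat))
  ⟨vv n, O7.tt (n / 64)⟩

/-- the isomorphism -/
def la (m : M) : I (ZMod 4) :=
  let n := Nat.shiftRight LA (7 * (m.v.n + 64 * m.t.n))
  mk4 (n : ℕ) (n / 4 : ℕ) (n.testBit 4) (n.testBit 5) (n.testBit 6)

theorem ka_mul : ∀ v w, ka (v * w) = ka v * ka w ∨ ka (v * w) = ka v * ka w * al := by decide +kernel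
theorem ka_la : ∀ m ∈ T0, ka (la m) = m ∨ ka (la m) = m * al := by decide +kernel
theorem ka_mem : ∀ w, ka w ∈ T0 := by decide +kernel

variable {G X : Type*} [Group G] [Group X]

theorem tv_mul (χ : M →* X) (i j : Fin 7) : tv χ i * tv χ j = χ (inl (two i.rev j.rev)) := by
  rw [tv, tv, ← map_mul, ← map_mul, vi_mul]

theorem ind_of {χ : M →* X} {g : X} {σ : Perm (Fin 7)}
    (h : ∀ v, g * χ (inl v) * g⁻¹ = χ (inl (pv (Fin.revPerm * σ * Fin.revPerm) v))) : Ind (tv χ) g σ := fun i => by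
  rw [tv, h, pv_vi, tv]; simp

theorem Ind.map {Y : Type*} [Group Y] {t : Fin 7 → X} {g : X} {σ : Perm (Fin 7)} (h : Ind t g σ) (f : X →* Y) :
    Ind (fun i => f (t i)) (f g) σ := fun i => by rw [← map_inv, ← map_mul, ← map_mul, h]

theorem om6_of [Finite X] {χ : M →* X} (hχ : Fr χ) (zc : ∀ g, Commute g (χ al)) (core : oddCore X = ⊥) {K : Subgroup X}
    (idx : K.index = 2) (mem : ∀ m, χ m ∈ K ↔ m ∈ T0) (one : ∀ m ∈ T0, m * m = 1 → m ≠ 1 → m ≠ al →
      ∃ g, g * χ m * g⁻¹ = χ (inl (vv 3)) ∨ g * χ m * g⁻¹ = χ (inl (vv 60)))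
    (a6 : ∀ σ : Perm (Fin 7), Perm.sign σ = 1 → σ 0 = 0 → ∃ g, Ind (tv χ) g σ)
    (nc : ¬ IsConj (tv χ 1) (tv χ 1 * tv χ 0)) (nc2 : ¬ IsConj (tv χ 1 * tv χ 2) (tv χ 1 * tv χ 2 * tv χ 0))
    (nf : ∃ n g, g = n * χ (inl (vv 17)) * n⁻¹ ∧ Commute g (χ (inl (vv 48))) ∧ g * χ (inl (vv 12)) * g⁻¹ = χ (inr (O7.tt 1))) :
    ∃ (F : Type) (_ : Field F) (_ : Fintype F) (φ : OO F → X), Om6 (tv χ) φ := by
  have : (zpowers (χ al)).Normal := ⟨fun x ⟨k, e⟩ g => ⟨k, by
    simp only [← e, ((zc g).zpow_right k).eq, mul_inv_cancel_right]⟩⟩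
  let π := QuotientGroup.mk' (zpowers (χ al))
  have su : Function.Surjective π := QuotientGroup.mk'_surjective _
  have ker : ∀ x, π x = 1 ↔ x = 1 ∨ x = χ al := fun x => (QuotientGroup.eq_one_iff x).trans
    ⟨CycS.mem_zpowers_sq (by rw [← map_mul, al_sq, map_one]), by rintro (rfl | rfl); exacts [one_mem _, mem_zpowers _]⟩
  let θ := π.comp χ
  have k0 : ∀ m, θ m = 1 ↔ m = 1 ∨ m = al := fun m => (ker _).trans (or_congr (map_eq_one_iff _ hχ.inj) hχ.inj.eq_iff)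
  have k1 : ∀ {m m'}, m' = m ∨ m' = m * al → θ m' = θ m := by
    rintro m _ (rfl | rfl)
    exacts [rfl, by rw [map_mul, (k0 al).2 (.inr rfl), mul_one]]
  let ψ : I (ZMod 4) →* _ := MonoidHom.mk' (fun w => θ (ka w)) fun v w => (k1 (ka_mul v w)).trans (map_mul θ _ _)
  have hl : ∀ m ∈ T0, θ m = ψ (la m) := fun m hm => (k1 (ka_la m hm)).symm
  have rg : ψ.range = T0.map θ := le_antisymm (by rintro _ ⟨w, rfl⟩; exact ⟨_, ka_mem w, rfl⟩)
    (by rintro _ ⟨m, hm, rfl⟩; exact ⟨_, (hl m hm).symm⟩)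
  have mr : ∀ m ∈ T0, π (χ m) ∈ ψ.range := fun m hm => ⟨_, (hl m hm).symm⟩
  have kK : π.ker ≤ K := fun x hx => ((ker x).1 hx).elim (fun e => e ▸ one_mem _) fun e => e ▸ (mem al).2 (by decide +kernel)
  have mN : ∀ m, θ m ∈ K.map π ↔ m ∈ T0 := fun m => by
    rw [← mem, ← comap_map_eq_self kK, mem_comap, map_comap_eq_self_of_surjective su]; rfl
  have iN : (K.map π).index = 2 := (index_map_eq _ su kK).trans idx
  have tt : ∀ i j, π (tv χ i * tv χ j) = θ (inl (two i.rev j.rev)) := fun i j => congrArg π (tv_mul χ i j)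
  have z : π (tv χ 1 * tv χ 2) = ψ (zz 1) := (tt 1 2).trans (k1 (by decide +kernel))
  have cj : ∀ m ∈ T0, m * m = 1 → m ≠ 1 → m ≠ al → IsConj (θ m) (θ (inl (vv 3))) := fun m a b c d => by
    obtain ⟨g, e⟩ := one m a b c d
    refine isConj_iff.2 ⟨π g, ?_⟩
    rw [show π g * θ m * (π g)⁻¹ = π (g * χ m * g⁻¹) by simp [θ]]
    rcases e with e | e <;> rw [e]
    exacts [rfl, k1 (m := inl (vv 3)) (m' := inl (vv 60)) (by decide +kernel)]
  refine KH.om6 (π := π) (N := K.map π) (ψ := ψ)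
    { sq := fun i => by rw [tv_mul, two_self, map_one, map_one]
      cm := fun i j => ((Commute.all _ _).map inl).map χ
      prod := by simp only [tv, ← map_mul]; exact congrArg χ (by decide +kernel)
      t0 := by rw [tv_zero, map_ne_one_iff _ hχ.inj]; decide +kernel
      zc := tv_zero χ ▸ zc, nc := nc, nc2 := nc2, a6 := a6, core := core, surj := su, idx := iN, z := z
      ker := fun x => by rw [tv_zero]; exact ker x
      inj := (injective_iff_map_eq_one _).2 fun w e => (by decide +kernel : ∀ w, ka w = 1 ∨ ka w = al → w = 1) w ((k0 _).1 e)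
      syl := ?_
      one := fun w a b => ?_
      out := fun e => absurd ((mN (inl (vi 5))).1 e) (by decide +kernel)
      nt := mem_normalizer_fintype ?_
      cT := fun w => ?_
      l1 := ⟨_, by decide +kernel, (tt 3 4).trans (hl _ (by decide +kernel))⟩
      l2 := ⟨_, by decide +kernel, (tt 3 5).trans (hl _ (by decide +kernel))⟩
      d := ⟨χ (inr (O7.tt 1)), swap 5 6 * swap 3 4, by decide, by decide, by decide, mr _ (by decide +kernel),
        ind_of fun v => (conj_F χ _ v).trans (by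
          rw [show Fin.revPerm * (swap 5 6 * swap 3 4) * Fin.revPerm = pp (O7.tt 1) by decide +kernel, pv_pp]; rfl)⟩
      com := ?_
      nF := fun L _ hL => ?_ }
  · have := hχ.syl.map π
    rw [MonoidHom.map_range, map_top_of_surjective _ su] at this
    have := normal_of_index_eq_two iN
    convert (⟨le_top, ‹Fus.SylIn 2 _ _›.2.1, fun Q a b c => ‹Fus.SylIn 2 _ _›.2.2 Q c a b⟩ :
      MSS.SylIn 2 θ.range ⊤).inf_normal_of_le (N := K.map π) le_normalizer_of_normal le_top using 1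
    exact rg.trans (le_antisymm (by rintro _ ⟨m, hm, rfl⟩; exact ⟨⟨m, rfl⟩, (mN m).2 hm⟩)
      (by rintro _ ⟨⟨m, rfl⟩, hm⟩; exact ⟨m, (mN m).1 hm, rfl⟩))
  · have k : ∀ w : I (ZMod 4), w * w = 1 → w ≠ 1 → ka w * ka w = 1 ∧ ka w ≠ 1 ∧ ka w ≠ al := by decide +kernel
    obtain ⟨c, d, e⟩ := k w a b
    obtain ⟨c', d', e'⟩ := k (zz 1) (by decide +kernel) (by decide +kernel)
    exact (cj _ (ka_mem _) c' d' e').trans (cj _ (ka_mem w) c d e).symm
  · rw [rg]
    rintro _ ⟨m, hm, rfl⟩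
    exact ⟨inl (vi 5) * m * (inl (vi 5))⁻¹, (by decide +kernel : ∀ m ∈ T0, inl (vi 5) * m * (inl (vi 5))⁻¹ ∈ T0) m hm, by
      rw [map_mul, map_mul, map_inv]; rfl⟩
  · obtain ⟨m, hm, a⟩ := (by decide +kernel : ∀ w, ∃ m ∈ [inl (vv 17), inr (O7.tt 2), inr (O7.tt 4)], m ∈ T0 ∧
      ¬ (ka w * inl (vi 5) * m * (m * (ka w * inl (vi 5)))⁻¹ = 1 ∨ ka w * inl (vi 5) * m * (m * (ka w * inl (vi 5)))⁻¹ = al)) w
    refine ⟨la m, fun e => a.2 ((k0 _).1 ?_)⟩
    rw [← hl m a.1] at e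
    rw [map_mul, map_inv, mul_inv_eq_one, map_mul, map_mul θ m, map_mul]
    exact e
  · have := commutator_mem_commutator (H₁ := ψ.range.comap π) (H₂ := ψ.range.comap π) (g₁ := χ ⟨vv 5, O7.tt 2⟩)
      (g₂ := χ ⟨vv 17, O7.tt 3⟩) (mr _ (by decide +kernel)) (mr _ (by decide +kernel))
    rw [tv_zero]
    rwa [← map_commutatorElement, show ⁅(⟨vv 5, O7.tt 2⟩ : M), (⟨vv 17, O7.tt 3⟩ : M)⁆ = al by
      rw [commutatorElement_def]; decide +kernel] at this
  · obtain ⟨n, g, e, a, b⟩ := nf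
    refine ⟨π g, ?_, z ▸ tt 1 2 ▸ a.map π, la (inl (vv 12)), by decide +kernel, la (inr (O7.tt 1)), by decide +kernel, ?_⟩
    · rw [e, map_mul, map_mul, map_inv]
      exact Normal.conj_mem ‹_› _ (hL (mr _ (by decide +kernel))) _
    · rw [← hl _ (by decide +kernel), ← hl _ (by decide +kernel)]
      exact Eq.trans (by simp [θ]) (congrArg π b)

theorem Om6.coe {F : Type} [Field F] [Fintype F] {H : Subgroup G} {t : Fin 7 → H} {φ : OO F → H} (h : Om6 t φ)
    (hH : centralizer {(t 0 : G)} ≤ H) (nc : ¬ IsConj (t 1 : G) (t 1 * t 0)) : Om6 (fun i => (t i : G)) fun x => φ x where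
  q8 := h.q8
  mul x hx y hy := congrArg Subtype.val (h.mul x hx y hy)
  inj x hx e := h.inj x hx (Subtype.ext e)
  tau i := congrArg Subtype.val (h.tau i)
  nrm g hg x hx := (h.nrm ⟨g, hH (mem_centralizer_singleton_iff.2 hg)⟩ (Subtype.ext hg) x hx).imp fun _ e =>
    ⟨e.1, congrArg Subtype.val e.2⟩
  cen g hg := (h.cen ⟨g, hH (mem_centralizer_singleton_iff.2 (h.tau 0 ▸ hg _ tau0_mem))⟩ fun x hx => Subtype.ext (hg x hx)).imp
    (congrArg Subtype.val) (congrArg Subtype.val)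
  idx := by
    have := h.idx
    rw [← relIndex_map_map_of_injective _ _ H.subtype_injective, MonoidHom.map_closure, Set.image_image] at this
    convert this using 3
    · rfl
    exact le_antisymm (fun g hg => ⟨⟨g, hH hg⟩, mem_centralizer_singleton_iff.2 (Subtype.ext (mem_centralizer_singleton_iff.1 hg)), rfl⟩)
      (by rintro _ ⟨g, hg, rfl⟩; exact mem_centralizer_singleton_iff.2 (congrArg Subtype.val (mem_centralizer_singleton_iff.1 hg)))
  nc := nc

variable {φ : M →* G} {K : Subgroup G}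

/-- the frame in `C(al)` -/
def rc (φ : M →* G) : M →* centralizer {φ al} :=
  φ.codRestrict _ fun m => mem_centralizer_singleton_iff.2 (by rw [← map_mul, al_comm, map_mul])

theorem PiH.act {π : normalizer (EE φ : Set G) →* YK.HH} (h : PiH φ _ π) (g : normalizer (EE φ : Set G)) {m m' : M}
    (hm : m ∈ E0) (e : π g * mu m = mu m' * π g) : (g : G) * φ m * (g : G)⁻¹ = φ m' := by
  obtain ⟨x, -, e'⟩ := (mem_normalizer_iff.1 g.2 _).1 (mem_map_of_mem φ hm)
  have : mu x = mu m' := by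
    rw [← h.hom x (h.le ⟨_, rfl⟩), show (⟨φ x, h.le ⟨_, rfl⟩⟩ : normalizer (EE φ : Set G)) = g * ⟨φ m, h.le ⟨_, rfl⟩⟩ * g⁻¹ from
      Subtype.ext e', map_mul, map_mul, map_inv, h.hom, e, mul_inv_cancel_right]
  rw [← mu_inj this, e']

namespace Omc

variable (h : Omc φ K)
include h

theorem ind {σ : Perm (Fin 7)} (hσ : Perm.sign σ = 1) : ∃ g, Ind (tv φ) g σ :=
  ((h.alt (Fin.revPerm * σ * Fin.revPerm)).2 (by simp [hσ])).imp fun _ => ind_of

theorem ind0 {σ : Perm (Fin 7)} (hσ : Perm.sign σ = 1) (h0 : σ 0 = 0) : ∃ g, Ind (tv (rc φ)) g σ :=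
  let ⟨g, hg⟩ := h.ind hσ
  ⟨⟨g, mem_centralizer_singleton_iff.2 (tv_zero φ ▸ hg.comm h0)⟩, fun i => Subtype.ext (hg i)⟩

theorem nc : ¬ IsConj (tv φ 1) (tv φ 1 * tv φ 0) := fun e =>
  absurd ((h.cls _).1 (((h.cls _).2 ⟨_, rfl⟩).trans (tv_mul φ 1 0 ▸ e))) (by decide +kernel)

variable [Finite G]

theorem om6 {ρ : centralizer {φ al} →* X} (Q : Qt ρ) :
    ∃ (F : Type) (_ : Field F) (_ : Fintype F) (ψ : OO F → X), Om6 (tv (ρ.comp (rc φ))) ψ := by
  have := Q.fin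
  have odd := Nat.coprime_two_right.1 Q.cop
  have kK : ρ.ker ≤ K.subgroupOf _ := fun x hx => by
    obtain ⟨k, hk⟩ := odd.of_dvd_nat (orderOf_dvd_natCard _ hx)
    have := inv_mem (mul_self_mem_of_index_two h.idx (x ^ k))
    rwa [inv_eq_of_mul_eq_one_right (by rw [← pow_add, ← pow_succ, ← two_mul, ← hk, pow_orderOf_eq_one])] at this
  have lf : ∀ {u v : V}, IsConj (ρ (rc φ (inl u))) (ρ (rc φ (inl v))) → IsConj (φ (inl u)) (φ (inl v)) := fun e =>
    (Subgroup.subtype _).map_isConj (Q.lift (by simp [← map_mul]) (by simp [← map_mul]) e)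
  refine om6_of ((h.toFr.restrict _).map Q.surj odd) (fun g => ?_) Q.core ((index_map_eq _ Q.surj kK).trans h.idx)
    (fun m => ?_) (fun m a b c d => ?_) (fun σ a b => ?_) (fun e => h.nc ?_) (fun e => ?_) ?_
  · obtain ⟨g, rfl⟩ := Q.surj g
    exact Commute.map (Subtype.ext (mem_centralizer_singleton_iff.1 g.2)) ρ
  · rw [← h.mem]
    exact (mem_comap (f := ρ).symm.trans (by rw [comap_map_eq_self kK])).trans mem_subgroupOf
  · obtain ⟨g, hg, e⟩ := h.one m a b c d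
    have k : ∀ {v}, g * φ m * g⁻¹ = φ v → ρ ⟨g, h.le hg⟩ * ρ (rc φ m) * (ρ ⟨g, h.le hg⟩)⁻¹ = ρ (rc φ v) := fun e => by
      rw [← map_inv, ← map_mul, ← map_mul]; exact congrArg ρ (Subtype.ext e)
    exact ⟨_, e.imp k k⟩
  · exact let ⟨g, hg⟩ := h.ind0 a b; ⟨_, hg.map ρ⟩
  · rw [tv_mul] at e ⊢; exact lf e
  · rw [tv_mul, tv, ← map_mul, ← map_mul] at e
    obtain ⟨ψ, a, b⟩ := h.toFr.isConj_iff.1 (lf e)
    obtain ⟨σ, rfl⟩ := h.perm a
    exact (by decide +kernel : ∀ i j, two i j ≠ two 5 4 * vi 6) _ _ ((pv_two σ _ _).symm.trans b)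
  · obtain ⟨π, P⟩ := h.pi
    obtain ⟨n, hn⟩ := P.surj (YK.rf 0 4)
    let g := n * ⟨φ (inl (vv 17)), P.le ⟨_, rfl⟩⟩ * n⁻¹
    have e : π g = YK.rf 0 4 * mu (inl (vv 17)) * YK.rf 0 4 := by
      rw [map_mul, map_mul, map_inv, hn, P.hom, inv_eq_of_mul_eq_one_right (YK.rf_sq 0 4)]
    have k : ∀ {m m'}, m ∈ E0 → π g * mu m = mu m' * π g → ρ ⟨g, h.pi.le_cen g.2⟩ * ρ (rc φ m) * (ρ ⟨g, h.pi.le_cen g.2⟩)⁻¹ =
        ρ (rc φ m') := fun a b => by
      rw [← map_inv, ← map_mul, ← map_mul]; exact congrArg ρ (Subtype.ext (P.act g a b))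
    refine ⟨ρ ⟨n, h.pi.le_cen n.2⟩, ρ ⟨g, h.pi.le_cen g.2⟩, by rw [MonoidHom.comp_apply, ← map_inv, ← map_mul, ← map_mul]; rfl,
      mul_inv_eq_iff_eq_mul.1 (k (by decide +kernel) ?_), k (by decide +kernel) ?_⟩ <;> rw [e, YK.code_iff] <;>
      simp only [YK.code_mul, YK.code_rf, code_mu] <;> decide +kernel

theorem loc : Loc (tv φ) := by
  have Q := P4S.qt_mk (centralizer {φ al})
  obtain ⟨F, _, _, ψ, O⟩ := h.om6 Q
  have := Q.fin
  generalize QuotientGroup.mk' (pPrimeCore 2 (centralizer {φ al})) = ρ at Q O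
  have aux : ∀ D ≤ centralizer {φ al}, (∀ Y : Subgroup _, Odd (Nat.card Y) → (∀ y ∈ Y, ∃ g, g.1 ∈ D ∧ ρ g = y) →
      (∀ g, g.1 ∈ D → ∀ y ∈ Y, ρ g * y * (ρ g)⁻¹ ∈ Y) → Y = ⊥) → PComp.opOf 2 D ≤ PComp.opOf 2 (centralizer {φ al}) :=
    fun D hD b => Q.le_of ((PComp.opOf_le 2 D).trans hD) (b _ (P4S.odd_im ((PComp.opOf_le 2 D).trans hD)
      (Nat.coprime_two_right.1 (PComp.opOf_coprime 2 D))) (fun _ ⟨g, hg, e⟩ => ⟨g, PComp.opOf_le 2 D hg, e⟩)
      (by
        rintro g hg _ ⟨y, hy, rfl⟩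
        exact ⟨g * y * g⁻¹, (mem_normalizer_iff.1 (PComp.le_normalizer_opOf 2 D hg) _).1 hy, by simp⟩))
  have cm : ∀ {g x : centralizer {φ al}}, g.1 ∈ centralizer {x.1} → Commute (ρ g) (ρ x) := fun e =>
    Commute.map (Subtype.ext (mem_centralizer_singleton_iff.1 e)) ρ
  have c0 : ∀ g, Commute (ρ g) (tv (ρ.comp (rc φ)) 0) := fun g => tv_zero (ρ.comp (rc φ)) ▸ cm g.2
  have sq : ∀ v, rc φ (inl v) * rc φ (inl v) = 1 := fun v => by simp [← map_mul]
  have cc : ∀ u v, Commute (rc φ (inl u)) (rc φ (inl v)) := fun u v => ((Commute.all u v).map inl).map _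
  have c2 : ∀ {u v c}, Commute c (ρ (rc φ (inl u))) → Commute c (ρ (rc φ (inl v))) → ∃ g, g.1 ∈ centralizer {φ al} ⊓
      centralizer {φ (inl u)} ⊓ centralizer {φ (inl v)} ∧ ρ g = c := fun a b =>
    (Q.cent2 (sq _) (sq _) (cc _ _) ⟨mem_centralizer_singleton_iff.2 a, mem_centralizer_singleton_iff.2 b⟩).imp
      fun g e => ⟨⟨⟨g.2, e.1.1⟩, e.1.2⟩, e.2⟩
  refine ⟨fun j hj => ?_, ?_, fun i j k a1 a2 a3 a4 a5 a6 => ?_, fun g hg => ?_⟩ <;> rw [tv_zero] at *
  · refine aux _ inf_le_left fun Y o a b => O.lc2 hj o (fun y hy => ?_) fun c _ hc => ?_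
    · obtain ⟨g, hg, rfl⟩ := a y hy
      exact ⟨c0 g, cm hg.2⟩
    · obtain ⟨g, hg, rfl⟩ := Q.cent (sq _) (mem_centralizer_singleton_iff.2 hc)
      exact b g ⟨g.2, hg⟩
  · refine aux _ (inf_le_left.trans inf_le_left) fun Y o a b => O.lc3 (j := 1) (k := 2) (by decide) (by decide) (by decide) o
      (fun y hy => ?_) fun c _ h1 h2 => ?_
    · obtain ⟨g, hg, rfl⟩ := a y hy
      exact ⟨c0 g, cm hg.1.2, cm hg.2⟩
    · obtain ⟨g, hg, rfl⟩ := c2 h1 h2
      exact b g hg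
  · rw [tv_mul, tv_mul]
    refine aux _ (inf_le_left.trans inf_le_left) fun Y o a b => O.lc4' a1 a2 a3 a4 a5 a6 o (fun y hy => ?_) fun c _ h1 h2 => ?_
    · obtain ⟨g, hg, rfl⟩ := a y hy
      rw [tv_mul, tv_mul]
      exact ⟨c0 g, cm hg.1.2, cm hg.2⟩
    · rw [tv_mul] at h1 h2
      obtain ⟨g, hg, rfl⟩ := c2 h1 h2
      exact b g hg
  · refine Q.mem_of (le_sup_of_le_left le_sup_left) (x := ⟨g, hg⟩) (O.gen (j := 1) (k := 2) (by decide) (by decide) (by decide)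
      (fun σ a b => ?_) (fun c _ h1 h2 => ?_) (c0 _))
    · obtain ⟨u, hu⟩ := h.ind0 a b
      refine ⟨_, ⟨u, mem_sup_left (mem_sup_right (norm_of fun x hx => ?_)), rfl⟩, hu.map ρ⟩
      refine (closure_le ((closure (Set.range (tv φ))).comap (MulAut.conj u.1).toMonoidHom)).2 ?_ hx
      rintro _ ⟨i, rfl⟩
      exact subset_closure ⟨σ i, (congrArg Subtype.val (hu i)).symm⟩
    · obtain ⟨g, hg, rfl⟩ := c2 h1 h2
      exact ⟨g, mem_sup_right hg, rfl⟩

theorem final [IsSimpleGroup G] (hO : PComp.opOf 2 (centralizer {φ al}) = ⊥) :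
    Nonempty (G ≃* alternatingGroup (Fin 12)) ∨ Nonempty (G ≃* alternatingGroup (Fin 13)) ∨
      ∃ (F : Type) (_ : Field F) (_ : Fintype F), (Fintype.card F % 8 = 3 ∨ Fintype.card F % 8 = 5) ∧
        Nonempty (G ≃* Cfsg.POmega F (Cfsg.quadFormOdd 3 F)) := by
  obtain ⟨F, _, _, ψ, O⟩ := h.om6 (P4S.qt_id (PComp.opOf_eq_bot_iff.1 hO))
  obtain ⟨T, hT⟩ := Fus.sylIn_top_iff.1 h.syl
  obtain ⟨g, hg⟩ := h.ind (σ := swap 0 6 * swap 2 3) (by decide)
  refine ((O.coe (congrArg (fun x => centralizer {x}) (tv_zero φ)).le h.nc).final T (by rw [hT, h.toFr.card_range]; rfl) (fun x hx => ?_) (fun x hx e => ?_)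
    hg).imp_right (Or.imp_right fun e => ⟨F, _, _, O.q8, e⟩)
  all_goals obtain ⟨m, rfl⟩ : x ∈ φ.range := hT ▸ hx
  · change Commute _ (tv φ 0)
    rw [tv_zero]; exact Commute.map (al_comm m) φ
  · obtain ⟨i, rfl⟩ := (h.cls m).1 (tv_zero φ ▸ e)
    exact ⟨i.rev, (tv_rev φ i).symm⟩

end Omc

end CL.O7
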