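import Mathlib.Algebra.Group.Subgroup.Finite
import Mathlib.Algebra.Group.End
import Mathlib.Data.Nat.Bitwise
import Mathlib.GroupTheory.Perm.Basic
import Mathlib.Algebra.BigOperators.Fin
import Mathlib.Tactic.FinCases
import Mathlib.Tactic.Group

/-!
A computable model `M = V ⋊ TT` of a Sylow 2-subgroup of `A₁₂` (order `2⁹`).

`V` is the group of the even subsets of the seven points `0, …, 6`; `vv n` is the subset whose points
`< 6` are the bits of `n` (the point `6` is added when their number is odd). `TT` is dihedral of order 8,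
`tt n = a ^ bit₀ * c ^ bit₁ * b ^ bit₂` with `a = tt 1 = (0 1)(2 3)`, `c = tt 2 = (0 1)(4 5)`,
`b = tt 4 = (0 2)(1 3)`; it permutes the points by `pt`. `vi i` is the complement of the point `i`,
`two i j = {i, j}`. All operations evaluate fast by `decide +kernel`.
-/

set_option autoImplicit false

namespace CL.O7

def AV : ℕ := 0xff7ef3fb6eb2f75e71f34e307d76d3796692755651714610be7ae3ba6aa2b65a61b24a203c72c3386282345241304200ffbdf3f79d71fbadb2f38d307db5d375955179a592718510beb9e3b69961baa9a2b289203cb1c334914138a182308100ff7ef3f75e71fb6eb2f34e30be7ae3b65a61ba6aa2b24a207d76d37556517966927146103c72c3345241386282304200ffbdf3fbadb2f79d71f38d30beb9e3baa9a2b69961b289207db5d379a5927595517185103cb1c338a182349141308100ffef7cdf6d74efae78cf2c707de75c5d65546da6584d2450beeb6c9e6964aeaa688e28603ce34c1c61442ca2480c2040ffdfbcef9eb8df5db4cf1cb07dd79c6d96985d55944d1490bedbacae9aa89e59a48e18a03cd38c2c92881c51840c1080ffdfbcdf5db4ef9eb8cf1cb0bedbac9e59a4ae9aa88e18a07dd79c5d55946d96984d14903cd38c1c51842c92880c1080ffef7cefae78df6d74cf2c70beeb6caeaa689e69648e28607de75c6da6585d65544d24503ce34c2ca2481c61440c2040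

/-- even subsets of seven points -/
def V : Type := Fin 64
/-- the dihedral group of order 8 -/
def TT : Type := Fin 8

instance : DecidableEq V := fun a b =>
  decidable_of_iff (Nat.beq (Fin.val a) (Fin.val b) = true) (Nat.beq_eq ▸ Fin.ext_iff.symm)
instance : DecidableEq TT := fun a b =>
  decidable_of_iff (Nat.beq (Fin.val a) (Fin.val b) = true) (Nat.beq_eq ▸ Fin.ext_iff.symm)
instance : Fintype V := inferInstanceAs (Fintype (Fin 64))
instance : Fintype TT := inferInstanceAs (Fintype (Fin 8))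

def vv (n : ℕ) : V := ⟨Nat.mod n 64, Nat.mod_lt _ (by decide)⟩
def tt (n : ℕ) : TT := ⟨Nat.mod n 8, Nat.mod_lt _ (by decide)⟩

/-- bounded quantifiers that the kernel evaluates fast -/
def allN (n : ℕ) (p : ℕ → Bool) : Bool := Nat.rec true (fun i r => cond (p i) r false) n
def anyN (n : ℕ) (p : ℕ → Bool) : Bool := Nat.rec false (fun i r => cond (p i) true r) n

theorem allN_iff {n : ℕ} {p : ℕ → Bool} : allN n p = true ↔ ∀ i < n, p i = true := by
  induction n with
  | zero => simp [allN]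
  | succ n ih =>
    change cond (p n) (allN n p) false = true ↔ _
    rw [Nat.forall_lt_succ_right, ← ih]
    cases p n <;> simp

theorem anyN_iff {n : ℕ} {p : ℕ → Bool} : anyN n p = true ↔ ∃ i < n, p i = true := by
  induction n with
  | zero => simp [anyN]
  | succ n ih =>
    change cond (p n) true (anyN n p) = true ↔ _
    rw [Nat.exists_lt_succ_right, ← ih]
    cases p n <;> simp

theorem vv_val (v : V) : vv (Fin.val v) = v := Fin.ext (Nat.mod_eq_of_lt (Fin.isLt v))
theorem tt_val (t : TT) : tt (Fin.val t) = t := Fin.ext (Nat.mod_eq_of_lt (Fin.isLt t))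

instance (p : V → Prop) [h : DecidablePred p] : Decidable (∀ v, p v) :=
  decidable_of_iff (allN 64 (fun i => decide (p (vv i))) = true) (allN_iff.trans
    ⟨fun H v => vv_val v ▸ of_decide_eq_true (H _ (Fin.isLt v)), fun H _ _ => decide_eq_true (H _)⟩)
instance (p : V → Prop) [h : DecidablePred p] : Decidable (∃ v, p v) :=
  decidable_of_iff (anyN 64 (fun i => decide (p (vv i))) = true) (anyN_iff.trans
    ⟨fun ⟨_, _, H⟩ => ⟨_, of_decide_eq_true H⟩,
      fun ⟨v, H⟩ => ⟨_, Fin.isLt v, decide_eq_true ((vv_val v).symm ▸ H)⟩⟩)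
instance (p : TT → Prop) [h : DecidablePred p] : Decidable (∀ t, p t) :=
  decidable_of_iff (allN 8 (fun i => decide (p (tt i))) = true) (allN_iff.trans
    ⟨fun H v => tt_val v ▸ of_decide_eq_true (H _ (Fin.isLt v)), fun H _ _ => decide_eq_true (H _)⟩)
instance (p : TT → Prop) [h : DecidablePred p] : Decidable (∃ t, p t) :=
  decidable_of_iff (anyN 8 (fun i => decide (p (tt i))) = true) (anyN_iff.trans
    ⟨fun ⟨_, _, H⟩ => ⟨_, of_decide_eq_true H⟩,
      fun ⟨v, H⟩ => ⟨_, Fin.isLt v, decide_eq_true ((tt_val v).symm ▸ H)⟩⟩)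

def V.n (v : V) : ℕ := Fin.val v
def TT.n (t : TT) : ℕ := Fin.val t

theorem V.ext {a b : V} (h : a.n = b.n) : a = b := Fin.ext h
theorem TT.ext {a b : TT} (h : a.n = b.n) : a = b := Fin.ext h
theorem V.lt (a : V) : a.n < 64 := Fin.isLt a
theorem TT.lt (a : TT) : a.n < 8 := Fin.isLt a

instance : CommGroup V where
  mul a b := ⟨Nat.xor a.n b.n, Nat.xor_lt_two_pow (n := 6) a.lt b.lt⟩
  one := ⟨0, by decide⟩
  inv a := a
  mul_assoc _ _ _ := Fin.ext (Nat.xor_assoc _ _ _)
  one_mul _ := Fin.ext (Nat.zero_xor _)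
  mul_one _ := Fin.ext (Nat.xor_zero _)
  inv_mul_cancel _ := Fin.ext (Nat.xor_self _)
  mul_comm _ _ := Fin.ext (Nat.xor_comm _ _)

theorem V.mul_n (a b : V) : (a * b).n = a.n ^^^ b.n := rfl
theorem V.inv_eq (a : V) : a⁻¹ = a := rfl
@[simp] theorem V.mul_self (a : V) : a * a = 1 := inv_mul_cancel a
theorem V.card : Nat.card V = 64 := Nat.card_fin 64

/-- the action on the points -/
def pt (t : TT) (i : Fin 7) : Fin 7 :=
  ⟨Nat.mod (Nat.mod (Nat.shiftRight 0x1a52131a505a1ac0531ac21a1a54c81a56811ac4c11ac688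
    (Nat.mul 3 (Nat.add (Nat.mul 8 t.n) i.1))) 8) 7, Nat.mod_lt _ (by decide)⟩

def tmul (s t : TT) : TT := tt (Nat.shiftRight 0x213b3705a97e681fa54c8dec977053b3e21ade54c1fac688
  (Nat.mul 3 (Nat.add (Nat.mul 8 s.n) t.n)))
def tinv (s : TT) : TT := tt (Nat.shiftRight 0xdec688 (Nat.mul 3 s.n))

instance : Group TT where
  mul := tmul
  one := ⟨0, by decide⟩
  inv := tinv
  mul_assoc := by decide +kernel
  one_mul := by decide +kernel
  mul_one := by decide +kernel
  inv_mul_cancel := by decide +kernel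

theorem pt_mul : ∀ (s t : TT) (i : Fin 7), pt (s * t) i = pt s (pt t i) := by decide +kernel
theorem pt_one : ∀ i, pt 1 i = i := by decide +kernel
theorem pt_inj : ∀ s t : TT, (∀ i, pt s i = pt t i) → s = t := by decide +kernel
theorem pt_six : ∀ t, pt t 6 = 6 := by decide +kernel
theorem TT.card : Nat.card TT = 8 := Nat.card_fin 8

/-- the basis, `e i = {i, 6}` -/
def e (i : Fin 6) : V := vv (2 ^ i.1)
/-- the set `{i, j}` -/
def two (i j : Fin 7) : V := vv (2 ^ i.1 ^^^ 2 ^ j.1)
/-- the complement of a point -/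
def vi (i : Fin 7) : V := vv (63 ^^^ 2 ^ i.1)
/-- the number of points among the first six -/
def pc (v : V) : ℕ :=
  Nat.mod (Nat.shiftRight 0xd6cb23b238dab238da8da691b238da8da6918da691691448 (Nat.mul 3 v.n)) 8
/-- the number of points -/
def wt (v : V) : ℕ := pc v + pc v % 2
/-- membership -/
def has (v : V) (i : Fin 7) : Bool := Nat.testBit (v.n + 64 * (pc v % 2)) i.1

def bt (c : V) (v : V) (i : ℕ) : V := bif v.n.testBit i then c else 1

theorem bt_mul (c a b : V) (i : ℕ) : bt c (a * b) i = bt c a i * bt c b i := by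
  unfold bt
  rw [V.mul_n, Nat.testBit_xor]
  cases a.n.testBit i <;> cases b.n.testBit i <;> simp

/-- the linear map with given images of the basis -/
def lin (c : Fin 6 → V) : V →* V :=
  MonoidHom.mk' (fun v => bt (c 0) v 0 * bt (c 1) v 1 * bt (c 2) v 2 * bt (c 3) v 3 * bt (c 4) v 4 *
    bt (c 5) v 5) (by
    intro a b
    simp only [bt_mul]
    ac_rfl)

theorem lin_apply (c : Fin 6 → V) (v : V) : lin c v = bt (c 0) v 0 * bt (c 1) v 1 * bt (c 2) v 2 *
    bt (c 3) v 3 * bt (c 4) v 4 * bt (c 5) v 5 := rfl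

theorem lin_e (c : Fin 6 → V) (i : Fin 6) : lin c (e i) = c i := by
  have h : ∀ i j : Fin 6, (e i).n.testBit j.1 = decide (i = j) := by decide +kernel
  have h0 := h i 0; have h1 := h i 1; have h2 := h i 2; have h3 := h i 3
  have h4 := h i 4; have h5 := h i 5
  simp only [Fin.isValue, Fin.coe_ofNat_eq_mod, Nat.reduceMod] at h0 h1 h2 h3 h4 h5
  simp only [lin_apply, bt, h0, h1, h2, h3, h4, h5]
  fin_cases i <;> simp

theorem lin_id : ∀ v, lin e v = v := by decide +kernel

theorem hom_ext {H : Type*} [Monoid H] {f g : V →* H} (h : ∀ i, f (e i) = g (e i)) : f = g := by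
  ext v
  have : ∀ i j, f (bt (e i) v j) = g (bt (e i) v j) := fun i j => by
    unfold bt; cases v.n.testBit j <;> simp [h]
  rw [← lin_id v, lin_apply]
  simp only [map_mul, this]

theorem aut_ext {f g : MulAut V} (h : ∀ i, f (e i) = g (e i)) : f = g :=
  MulEquiv.ext fun v => DFunLike.congr_fun (hom_ext (f := f.toMonoidHom) (g := g.toMonoidHom) h) v

theorem eq_lin (f : V →* V) : f = lin fun i => f (e i) := hom_ext fun i => (lin_e (fun i => f (e i)) i).symm

/-- the automorphism with given images of the basis -/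
def mkAut (c c' : Fin 6 → V) (h : ∀ i, lin c' (c i) = e i ∧ lin c (c' i) = e i) : MulAut V :=
  MonoidHom.toMulEquiv (lin c) (lin c')
    (hom_ext fun i => by simp [lin_e, (h i).1]) (hom_ext fun i => by simp [lin_e, (h i).2])

theorem mkAut_apply (c c' : Fin 6 → V) (h : ∀ i, lin c' (c i) = e i ∧ lin c (c' i) = e i) (v : V) :
    mkAut c c' h v = lin c v := rfl

theorem two_mul_two : ∀ i j k, two i k * two j k = two i j := by decide +kernel
theorem two_self : ∀ i, two i i = 1 := by decide +kernel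
theorem two_comm : ∀ i j, two i j = two j i := by decide +kernel
theorem e_eq : ∀ i : Fin 6, e i = two i.castSucc 6 := by decide +kernel
theorem vi_mul : ∀ i j, vi i * vi j = two i j := by decide +kernel
theorem vi_inj : ∀ i j, vi i = vi j → i = j := by decide +kernel
theorem vi_six : vi 6 = vv 63 := by decide +kernel
theorem wt_six : ∀ v, wt v = 6 ↔ ∃ i, vi i = v := by decide +kernel
theorem wt_two : ∀ v, wt v = 2 ↔ ∃ i j, i ≠ j ∧ two i j = v := by decide +kernel
theorem wt_cases : ∀ v, v = 1 ∨ wt v = 2 ∨ wt v = 4 ∨ wt v = 6 := by decide +kernel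
theorem has_mul : ∀ u v i, has (u * v) i = xor (has u i) (has v i) := by decide +kernel
theorem has_ext : ∀ u v, (∀ i, has u i = has v i) → u = v := by decide +kernel
theorem has_two : ∀ i j k, has (two i j) k = xor (decide (k = i)) (decide (k = j)) := by decide +kernel
theorem has_vi : ∀ i k, has (vi i) k = decide (k ≠ i) := by decide +kernel

/-- the linear map induced by a map of the points -/
def pl (f : Fin 7 → Fin 7) : V →* V := lin fun i => two (f i.castSucc) (f 6)

theorem pl_two6 (f : Fin 7 → Fin 7) (i : Fin 7) : pl f (two i 6) = two (f i) (f 6) := by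
  refine Fin.lastCases ?_ (fun j => ?_) i
  · rw [show Fin.last 6 = 6 from rfl, two_self, two_self, map_one]
  · rw [← e_eq, pl, lin_e]

theorem pl_two (f : Fin 7 → Fin 7) (i j : Fin 7) : pl f (two i j) = two (f i) (f j) := by
  rw [← two_mul_two i j 6, map_mul, pl_two6, pl_two6, two_mul_two]

theorem pl_pl (f g : Fin 7 → Fin 7) (v : V) : pl f (pl g v) = pl (f ∘ g) v :=
  DFunLike.congr_fun (hom_ext (f := (pl f).comp (pl g)) (g := pl (f ∘ g)) fun i => by
    simp only [MonoidHom.comp_apply, e_eq, pl_two, Function.comp]) v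

theorem pl_id (v : V) : pl id v = v :=
  DFunLike.congr_fun (hom_ext (f := pl id) (g := MonoidHom.id V) fun i => by
    simp only [e_eq, pl_two, id, MonoidHom.id_apply]) v

/-- the action of the permutations of the points -/
def pv : Equiv.Perm (Fin 7) →* MulAut V :=
  MonoidHom.mk' (fun σ => ⟨⟨pl σ, pl σ.symm, fun v => by
      rw [pl_pl, Equiv.symm_comp_self, pl_id], fun v => by rw [pl_pl, Equiv.self_comp_symm, pl_id]⟩,
    map_mul (pl σ)⟩) fun σ τ => MulEquiv.ext fun v => (pl_pl σ τ v).symm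

theorem pv_apply (σ : Equiv.Perm (Fin 7)) (v : V) : pv σ v = pl σ v := rfl
theorem pv_vi (σ : Equiv.Perm (Fin 7)) (i : Fin 7) : pv σ (vi i) = vi (σ i) := by
  have h1 : ∀ i, vi i = ∏ j ∈ Finset.univ.erase i, two j i := by decide +kernel
  rw [h1, h1, map_prod]
  exact Finset.prod_equiv σ (by simp) fun j _ => pl_two σ j i
theorem pv_inj : Function.Injective pv := fun σ τ h => Equiv.ext fun i =>
  vi_inj _ _ (by rw [← pv_vi, ← pv_vi, h])
theorem pv_two (σ : Equiv.Perm (Fin 7)) (i j : Fin 7) : pv σ (two i j) = two (σ i) (σ j) := pl_two σ i j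

/-- the action on the vectors -/
def av (t : TT) (v : V) : V := vv (Nat.shiftRight AV (Nat.mul 6 (Nat.add (Nat.mul 64 t.n) v.n)))

theorem av_pl : ∀ t v, av t v = pl (pt t) v := by decide +kernel
theorem av_mul (t : TT) (a b : V) : av t (a * b) = av t a * av t b := by simp only [av_pl, map_mul]
theorem av_one (t : TT) : av t 1 = 1 := by rw [av_pl, map_one]
theorem av_two (t : TT) (i j : Fin 7) : av t (two i j) = two (pt t i) (pt t j) := by rw [av_pl, pl_two]
theorem av_vi : ∀ t i, av t (vi i) = vi (pt t i) := by decide +kernel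
theorem one_av : ∀ v, av 1 v = v := by decide +kernel
theorem mul_av : ∀ (s t : TT) (v : V), av (s * t) v = av s (av t v) := by decide +kernel
theorem av_inv_av (t : TT) (v : V) : av t⁻¹ (av t v) = v := by rw [← mul_av, inv_mul_cancel, one_av]
theorem av_av_inv (t : TT) (v : V) : av t (av t⁻¹ v) = v := by rw [← mul_av, mul_inv_cancel, one_av]

def ac : TT →* MulAut V :=
  MonoidHom.mk' (fun t => ⟨⟨av t, av t⁻¹, av_inv_av t, av_av_inv t⟩, av_mul t⟩) fun s t =>
    MulEquiv.ext (mul_av s t)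

@[simp] theorem ac_apply (t : TT) (v : V) : ac t v = av t v := rfl

theorem ac_inj : Function.Injective ac := fun s t h => pt_inj s t fun i =>
  vi_inj _ _ (by rw [← av_vi, ← av_vi, ← ac_apply, h, ac_apply])

/-- the permutation of the points -/
def pp : TT →* Equiv.Perm (Fin 7) :=
  MonoidHom.mk' (fun t => ⟨pt t, pt t⁻¹, fun i => by rw [← pt_mul, inv_mul_cancel, pt_one],
    fun i => by rw [← pt_mul, mul_inv_cancel, pt_one]⟩) fun s t => Equiv.ext (pt_mul s t)

theorem pp_apply (t : TT) (i : Fin 7) : pp t i = pt t i := rfl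
theorem pv_pp (t : TT) : pv (pp t) = ac t := MulEquiv.ext fun v => (av_pl t v).symm

/-- the model group -/
@[ext] structure M where
  v : V
  t : TT
  deriving DecidableEq

instance (p : M → Prop) [DecidablePred p] : Decidable (∀ m, p m) :=
  decidable_of_iff (∀ v t, p ⟨v, t⟩) ⟨fun h m => h m.v m.t, fun h _ _ => h _⟩
instance (p : M → Prop) [DecidablePred p] : Decidable (∃ m, p m) :=
  decidable_of_iff (∃ v t, p ⟨v, t⟩) ⟨fun ⟨_, _, h⟩ => ⟨_, h⟩, fun ⟨m, h⟩ => ⟨m.v, m.t, h⟩⟩

instance : Group M where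
  mul x y := ⟨x.v * av x.t y.v, x.t * y.t⟩
  one := ⟨1, 1⟩
  inv x := ⟨av x.t⁻¹ x.v, x.t⁻¹⟩
  mul_assoc x y z := M.ext (by
    show x.v * av x.t y.v * av (x.t * y.t) z.v = x.v * av x.t (y.v * av y.t z.v)
    rw [av_mul, mul_av, mul_assoc]) (mul_assoc _ _ _)
  one_mul x := M.ext (by show 1 * av 1 x.v = x.v; rw [one_av, one_mul]) (one_mul _)
  mul_one x := M.ext (by show x.v * av x.t 1 = x.v; rw [av_one, mul_one]) (mul_one _)
  inv_mul_cancel x := M.ext (V.mul_self _) (inv_mul_cancel _)

@[simp] theorem M.mul_v (x y : M) : (x * y).v = x.v * av x.t y.v := rfl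
@[simp] theorem M.mul_t (x y : M) : (x * y).t = x.t * y.t := rfl
@[simp] theorem M.one_v : (1 : M).v = 1 := rfl
@[simp] theorem M.one_t : (1 : M).t = 1 := rfl
@[simp] theorem M.inv_v (x : M) : x⁻¹.v = av x.t⁻¹ x.v := rfl
@[simp] theorem M.inv_t (x : M) : x⁻¹.t = x.t⁻¹ := rfl

def M.equiv : M ≃ V × TT := ⟨fun m => (m.v, m.t), fun p => ⟨p.1, p.2⟩, fun _ => rfl, fun _ => rfl⟩
instance : Fintype M := Fintype.ofEquiv _ M.equiv.symm
theorem M.card : Nat.card M = 2 ^ 9 := by
  rw [Nat.card_congr M.equiv, Nat.card_prod, V.card, TT.card]; rfl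

def inl : V →* M := MonoidHom.mk' (fun v => ⟨v, 1⟩) fun a b =>
  M.ext (by simp [one_av]) (one_mul _).symm
def inr : TT →* M := MonoidHom.mk' (fun t => ⟨1, t⟩) fun a b => M.ext (by simp [av_one]) rfl
def pr : M →* TT := MonoidHom.mk' M.t fun _ _ => rfl

@[simp] theorem inl_v (v : V) : (inl v).v = v := rfl
@[simp] theorem inl_t (v : V) : (inl v).t = 1 := rfl
@[simp] theorem inr_v (t : TT) : (inr t).v = 1 := rfl
@[simp] theorem inr_t (t : TT) : (inr t).t = t := rfl
@[simp] theorem pr_apply (m : M) : pr m = m.t := rfl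
theorem inl_inj : Function.Injective inl := fun _ _ h => congrArg M.v h
theorem inr_inj : Function.Injective inr := fun _ _ h => congrArg M.t h
theorem inl_mul_inr (v : V) (t : TT) : inl v * inr t = ⟨v, t⟩ :=
  M.ext (by simp [av_one]) (one_mul _)
theorem eq_inl {m : M} (h : m.t = 1) : m = inl m.v := M.ext rfl h
theorem mem_range_inl {m : M} : m ∈ inl.range ↔ m.t = 1 :=
  ⟨by rintro ⟨v, rfl⟩; rfl, fun h => ⟨_, (eq_inl h).symm⟩⟩
theorem conj_inl (m : M) (v : V) : m * inl v * m⁻¹ = inl (av m.t v) :=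
  M.ext (by
    simp only [M.mul_v, M.mul_t, inl_v, inl_t, M.inv_v, mul_one, av_av_inv]
    rw [mul_right_comm, V.mul_self, one_mul]) (by simp)
theorem inl_conj (w : V) (m : M) : inl w * m * (inl w)⁻¹ = ⟨m.v * (w * av m.t w), m.t⟩ :=
  M.ext (by simp [one_av, mul_assoc, mul_left_comm]) (by simp)
theorem comm_inl_iff (m : M) (v : V) : Commute m (inl v) ↔ av m.t v = v := by
  rw [← inl_inj.eq_iff, ← conj_inl, mul_inv_eq_iff_eq_mul]; rfl
theorem sq_iff (m : M) : m * m = 1 ↔ av m.t m.v = m.v ∧ m.t * m.t = 1 := by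
  rw [M.ext_iff, M.mul_v, M.one_v, mul_eq_one_iff_inv_eq, V.inv_eq, eq_comm]; rfl

end CL.O7
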