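import Cfsg.Agent.INV.O7.PsiA

/-! The automizer of `E0` is `S₆`. -/

set_option autoImplicit false
set_option synthInstance.maxSize 4000

namespace CL.O7
open Subgroup CL.Fus

instance : E0.Normal := ⟨E0_conj⟩

/-- the action of `M` on `E0` -/
def aE : M →* MulAut E0 := MulAut.conjNormal

namespace Ps
open Equiv

theorem dih {G : Type*} [Group G] [Finite G] {a b : G} (ha : a * a = 1) (hb : b * b = 1) {k : ℕ} (h : (a * b) ^ 2 ^ k = 1) :
    IsPGroup 2 (zpowers a ⊔ zpowers (a * b) : Subgroup G) := by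
  have z : ∀ {x : G} {k : ℕ}, x ^ 2 ^ k = 1 → IsPGroup 2 (zpowers x) := fun {x k} e => by
    rintro ⟨_, n, rfl⟩
    exact ⟨k, Subtype.ext (show (x ^ n) ^ 2 ^ k = 1 by
      rw [← zpow_natCast, ← zpow_mul, mul_comm, zpow_mul, zpow_natCast, e, one_zpow])⟩
  refine (z (k := 1) (by rw [pow_one, pow_two, ha])).to_sup_of_normal_right' (z h) (zpowers_le.2 (norm_of ?_))
  rintro _ ⟨n, rfl⟩
  rw [← conj_zpow, show a * (a * b) * a⁻¹ = (a * b)⁻¹ by
    rw [← mul_assoc, ha, one_mul, mul_inv_rev, inv_eq_of_mul_eq_one_right hb]]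
  exact zpow_mem (inv_mem (mem_zpowers _)) n

/-- the element of `E0` with given coordinates -/
def eW (w : W) : M :=
  ⟨vv (Nat.shiftRight 0x1faf17e3c799c0e6f07f9f0fefc19ac1663007a311e0c6190086c0679309ecc01a010600 (9 * w.n)),
    tt (Nat.shiftRight 0x1faf17e3c799c0e6f07f9f0fefc19ac1663007a311e0c6190086c0679309ecc01a010600 (9 * w.n + 6))⟩

theorem eW_mem : ∀ w, eW w ∈ E0 := by decide +kernel
theorem fm_eW : ∀ w i, fm (eW w) i = has w i := by decide +kernel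

noncomputable def ε : W ≃* E0 := MulEquiv.ofBijective (MonoidHom.mk' (fun w => ⟨eW w, eW_mem w⟩) fun a b =>
    Subtype.ext ((by decide +kernel : ∀ a b, eW (a * b) = eW a * eW b) a b))
  ⟨fun a b h => (by decide +kernel : ∀ a b, eW a = eW b → a = b) a b (congrArg Subtype.val h), fun m =>
    ((by decide +kernel : ∀ m ∈ E0, ∃ w, eW w = m) m m.2).imp fun _ h => Subtype.ext h⟩

theorem ε_val (w : W) : (ε w).1 = eW w := rfl

theorem act_iff (w : YK.HH) (χ : MulAut W) : (∀ y, mu (eW (χ y)) = w * mu (eW y) * w⁻¹) ↔ PA (YK.pp w) χ := by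
  refine forall_congr' fun y => ?_
  obtain ⟨m, h1, h2, h3⟩ := conj_E w (eW_mem y)
  rw [h2, mu_inj.eq_iff]
  refine ⟨fun e i => by rw [← fm_eW, e, h3, fm_eW], fun e => fm_ext _ (eW_mem _) _ h1 fun i => ?_⟩
  obtain ⟨j, rfl⟩ := (YK.pp w).surjective i
  rw [h3, fm_eW, fm_eW, e]

/-- the action of `M` in coordinates -/
noncomputable def A : M →* MulAut W := (MulAut.congr ε.symm).toMonoidHom.comp aE

/-- the permutation of the six pairs -/
def pm (m : M) (i : Fin 6) : Fin 6 := ⟨(q m ⟨2 * i, by omega⟩).val / 2, by omega⟩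

theorem A_apply (m : M) (y : W) : A m y = cp (pm m⁻¹) y := by
  have := (act_iff (mu m) (A m)).1 fun y => by
    rw [← map_inv, ← map_mul, ← map_mul, ← ε_val, ← ε_val]
    exact congrArg (fun x : E0 => mu x.1) (ε.apply_symm_apply _)
  rw [this.eq, ← map_inv, ← map_inv]; rfl

def c : Fin 3 → W := ![ww 3, ww 12, ww 16]
def lm : Fin 3 → W := ![ww 3, ww 12, ww 15]
noncomputable def T (i : Fin 3) : MulAut W := A (inl (vi ⟨2 * i, by omega⟩))

theorem T_tv (i : Fin 3) : TV (T i) (c i) (lm i) := by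
  refine ⟨?_, ?_, ?_, fun y => (A_apply _ y).trans ?_⟩ <;> revert i <;> decide +kernel +revert

theorem tv_A {m : M} (h : IsTV (A m)) : ∃ i, A m = T i := by
  obtain ⟨x, l, h⟩ := h
  rcases (by decide +kernel : ∀ m : M, (∀ y, cp (pm m) y = y) ∨ (∃ i, ∀ y, cp (pm m) y = tf (c i) (lm i) y) ∨
    ∃ i j, cp (pm m) (e i) ≠ e i ∧ cp (pm m) (e j) ≠ e j ∧ e i * cp (pm m) (e i) ≠ e j * cp (pm m) (e j)) m⁻¹ with
    k | ⟨i, k⟩ | ⟨i, j, k1, k2, k3⟩
  · obtain ⟨y, hy⟩ := ex_dot l h.l1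
    have := k y
    rw [← A_apply, h.eq, tf, hy, mul_eq_left] at this
    exact absurd this h.x1
  · exact ⟨i, MulEquiv.ext fun y => by rw [A_apply, k, (T_tv i).eq]⟩
  · simp only [← A_apply, h.eq, tf, W.mul_self', ne_eq, mul_eq_left] at k1 k2 k3
    revert k1 k2 k3
    cases dot l (e i) <;> cases dot l (e j) <;> simp [pw]

variable {Φ : Subgroup (MulAut W)} {t u : MulAut W}

theorem pair (hQ : SylIn 2 A.range Φ) (ht : t ∈ Φ) (hu : u ∈ Φ) (h : IsTV t) (h' : IsTV u) (e : (t * u) ^ 2 ^ 2 = 1) :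
    ∃ g ∈ Φ, ∃ i j, g * t * g⁻¹ = T i ∧ g * u * g⁻¹ = T j := by
  have : Fact (Nat.Prime 2) := ⟨Nat.prime_two⟩
  have : Finite (MulAut W) := Finite.of_injective (fun f : MulAut W => (f : W → W)) DFunLike.coe_injective
  obtain ⟨x, l, k⟩ := id h
  obtain ⟨x', l', k'⟩ := id h'
  obtain ⟨g, hg, h1⟩ := hQ.exists_conj_le (sup_le (zpowers_le.2 ht) (zpowers_le.2 (mul_mem ht hu))) (dih k.sq k'.sq e)
  obtain ⟨m, hm⟩ := h1 t (mem_sup_left (mem_zpowers _))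
  obtain ⟨m', hm'⟩ := h1 u (by simpa using mul_mem_sup (inv_mem (mem_zpowers t)) (mem_zpowers (t * u)))
  obtain ⟨i, hi⟩ := tv_A (hm ▸ h.conj g)
  obtain ⟨j, hj⟩ := tv_A (hm' ▸ h'.conj g)
  exact ⟨g, hg, i, j, hm ▸ hi, hm' ▸ hj⟩

theorem T_comm (i j : Fin 3) : Commute (T i) (T j) := ((Commute.all _ _).map inl).map A

theorem good (hQ : SylIn 2 A.range Φ) : Good Φ := fun t ht u hu h h' e => by
  obtain ⟨g, -, i, j, e1, e2⟩ := pair hQ ht hu h h' e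
  refine ⟨by simpa [← e1, ← e2, mul_assoc] using (T_comm i j).map (MulAut.conj g⁻¹), fun k => ?_⟩
  obtain ⟨z, l, k⟩ := k.conj g
  rw [← conj_mul, e1, e2] at k
  refine (by decide +kernel : ∀ i j z l, z ≠ 1 → l ≠ 1 → ¬ ∀ y, tf (c i) (lm i) (tf (c j) (lm j) y) = tf z l y)
    i j z l k.x1 k.l1 fun y => ?_
  rw [← k.eq, MulAut.mul_apply, (T_tv j).eq, (T_tv i).eq]

theorem ex_s (hQ : SylIn 2 A.range Φ) (h1 : ∃ ψ ∈ Φ, ∃ x, (eW x).t = 1 ∧ (eW (ψ x)).t ≠ 1)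
    (h2 : ∃ ψ ∈ Φ, (eW (ψ (ww 2))).t.n < 2) : ∃ s ∈ Φ, IsTV s ∧ ¬ Commute s (T 2) := by
  by_contra hc
  push Not at hc
  have mT : ∀ i, T i ∈ Φ := fun i => hQ.le ⟨_, rfl⟩
  have cj : ∀ u, (∀ s ∈ Φ, IsTV s → Commute s u) → ∀ g ∈ Φ, ∀ s ∈ Φ, IsTV s → Commute s (g * u * g⁻¹) :=
    fun u hu g hg s hs h => by
      simpa [mul_assoc] using (hu _ (mul_mem (mul_mem (inv_mem hg) hs) (inv_mem (inv_mem hg))) (h.conj g⁻¹)).map
        (MulAut.conj g)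
  obtain ⟨ψ, hψ, h2⟩ := h2
  have k1 := (T_tv 2).conj ψ⁻¹
  have m1 := mul_mem (mul_mem (inv_mem hψ) (mT 2)) (inv_mem (inv_mem hψ))
  obtain ⟨g, hg, i, j, e1, e2⟩ := pair hQ m1 (mT 2) ⟨_, _, k1⟩ ⟨_, _, T_tv 2⟩
    (k1.four (T_tv 2) (.inl (k1.of_comm (T_tv 2) (hc _ m1 ⟨_, _, k1⟩))))
  have ij : i ≠ j := by
    rintro rfl
    have := DFunLike.congr_fun (mul_left_cancel (mul_right_cancel (e1.trans e2.symm))) (ww 2)
    rw [k1.eq, (T_tv 2).eq, tf, dot_dl, inv_inv, (by decide +kernel : ∀ y, (eW y).t.n < 2 → dot (lm 2) y = false) _ h2]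
      at this
    exact absurd ((mul_one _).symm.trans this) (by decide +kernel)
  have a1 := e1 ▸ cj _ (cj _ hc _ (inv_mem hψ)) g hg
  have a2 := e2 ▸ cj _ hc g hg
  have b : ∀ i j : Fin 3, i = 0 ∧ j = 1 ∨ i = 1 ∧ j = 0 → A (inr (tt 4)) * T i * (A (inr (tt 4)))⁻¹ = T j := fun i j h => by
    rw [T, T, ← map_inv, ← map_mul, ← map_mul]
    exact congrArg A (by revert i j; decide +kernel)
  have b0 := fun h => b 0 1 (.inl ⟨rfl, rfl⟩) ▸ cj (T 0) h _ (hQ.le ⟨inr (tt 4), rfl⟩)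
  have b1 := fun h => b 1 0 (.inr ⟨rfl, rfl⟩) ▸ cj (T 1) h _ (hQ.le ⟨inr (tt 4), rfl⟩)
  have a0 : ∀ s ∈ Φ, IsTV s → Commute s (T 0) := by
    rcases (by decide : ∀ i j : Fin 3, i ≠ j → i = 0 ∨ i = 1 ∨ j = 0 ∨ j = 1) i j ij with rfl | rfl | rfl | rfl
    exacts [a1, b1 a1, a2, b1 a2]
  have a : ∀ i, ∀ s ∈ Φ, IsTV s → Commute s (T i) := fun i => by
    fin_cases i
    exacts [a0, b0 a0, hc]
  obtain ⟨ψ, hψ, x, x1, x2⟩ := h1
  have d : ∀ i k, dot (lm i) (ψ (c k)) = false := fun i k => (T_tv i).of_comm ((T_tv k).conj ψ)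
    (a i _ (mul_mem (mul_mem hψ (mT k)) (inv_mem hψ)) ⟨_, _, (T_tv k).conj ψ⟩).symm
  obtain ⟨b0, b1, b2, rfl⟩ := (by decide +kernel : ∀ x, (eW x).t = 1 →
    ∃ b0 b1 b2, x = pw (c 0) b0 * pw (c 1) b1 * pw (c 2) b2) x x1
  refine x2 ((by decide +kernel : ∀ y, (∀ i, dot (lm i) y = false) → (eW y).t = 1) _ fun i => ?_)
  have mp := map_pw ψ.toMonoidHom
  simp only [MulEquiv.toMonoidHom_eq_coe, MonoidHom.coe_coe] at mp
  simp only [map_mul, mp, dot_mul, dot_pw, d, Bool.and_false, Bool.xor_false]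

/-- the change of coordinates -/
def bf (k : Bool × Bool) (y : W) : W := y * pw (ww 16) (k.1 && dot (ww 12) y) * pw (ww 15) (k.2 && dot (ww 15) y)

/-- the change of coordinates -/
def β (k : Bool × Bool) : MulAut W :=
  ⟨⟨bf k, bf k, fun y => by revert k y; decide +kernel, fun y => by revert k y; decide +kernel⟩,
    fun a b => by revert k a b; decide +kernel⟩

theorem psiW (hQ : SylIn 2 A.range Φ) (h1 : ∃ ψ ∈ Φ, ∃ x, (eW x).t = 1 ∧ (eW (ψ x)).t ≠ 1)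
    (h2 : ∃ ψ ∈ Φ, (eW (ψ (ww 2))).t.n < 2) : ∃ β : MulAut W, ∀ ψ, ψ ∈ Φ ↔ ∃ σ, PA σ (β * ψ * β⁻¹) := by
  obtain ⟨s, hs, ⟨x, l, h⟩, nc⟩ := ex_s hQ h1 h2
  have G := good hQ
  have mT : ∀ i, T i ∈ Φ := fun i => hQ.le ⟨_, rfl⟩
  have k1 : ∀ i, Cond x l (c i) (lm i) := fun i => G.cond hs (mT i) h (T_tv i)
  have k2 : dot l (c 2) = true := by
    by_contra e
    rw [Bool.not_eq_true] at e
    refine nc (h.comm (T_tv 2) e ?_)
    rcases k1 2 with ⟨rfl, -⟩ | k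
    exacts [(T_tv 2).lx, k.2.2 ▸ e]
  obtain ⟨k, i, j, ⟨e1, e2⟩, hj, i', j', ⟨e3, e4⟩, hj', hi⟩ := (by decide +kernel : ∀ x l, x ≠ 1 → l ≠ 1 → dot l x = false →
    dot l (c 2) = true → (∀ i, Cond x l (c i) (lm i)) → ∃ k, ∃ i j : Fin 6, (bf k x = two i j ∧ dl (bf k) l = lam i j) ∧
      (j = 4 ∨ j = 5) ∧ ∃ i' j' : Fin 6, (bf k (cp (pm (inr (tt 4))⁻¹) x) = two i' j' ∧
        dl (bf k) (dl (cp (pm (inr (tt 4))⁻¹⁻¹)) l) = lam i' j') ∧ (j' = 4 ∨ j' = 5) ∧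
          ((i = 0 ∨ i = 1) ∧ (i' = 2 ∨ i' = 3) ∨ (i' = 0 ∨ i' = 1) ∧ (i = 2 ∨ i = 3))) x l h.x1 h.l1 h.lx k2 k1
  have r : ∀ {t x l i j}, t ∈ Φ → TV t x l → bf k x = two i j → dl (bf k) l = lam i j →
      R (Φ.map (MulAut.conj (β k)).toMonoidHom) i j := fun ht h e1 e2 => ⟨_, ⟨_, ht, rfl⟩, e1 ▸ e2 ▸ h.conj (β k)⟩
  have mb : A (inr (tt 4)) ∈ Φ := hQ.le ⟨_, rfl⟩
  have h' := h.conj (A (inr (tt 4)))
  rw [A_apply, ← map_inv, show ⇑(A (inr (tt 4))⁻¹) = _ from funext (A_apply _)] at h'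
  have r3 := r hs h e1 e2
  have r4 := r (by rw [map_inv]; exact mul_mem (mul_mem mb hs) (inv_mem mb)) h' e3 e4
  obtain ⟨d0, d1, d2, d3, d4, d5⟩ := (by decide +kernel : ∀ k, bf k (c 0) = two 0 1 ∧ dl (bf k) (lm 0) = lam 0 1 ∧
    bf k (c 1) = two 2 3 ∧ dl (bf k) (lm 1) = lam 2 3 ∧ bf k (c 2) = two 4 5 ∧ dl (bf k) (lm 2) = lam 4 5) k
  have r0 := r (mT 0) (T_tv 0) d0 d1
  have r1 := r (mT 1) (T_tv 1) d2 d3
  have r2 := r (mT 2) (T_tv 2) d4 d5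
  refine ⟨β k, fun ψ => (mem_map_iff_mem (f := (MulAut.conj (β k)).toMonoidHom) (MulAut.conj _).injective).symm.trans ?_⟩
  rcases hi with ⟨a, b⟩ | ⟨a, b⟩
  exacts [(G.conj _).fin r0 r1 r2 r3 r4 a b hj hj' _, (G.conj _).fin r0 r1 r2 r4 r3 a b hj' hj _]

end Ps

open Ps in
/-- PROOF (all finite claims were checked by computer). Coordinates: `E0 = F₂⁵` with the basis `c₁ = vv 3`, `c₂ = vv 12`, `c₃ = vv 48`, `a = tt 1`, `c = tt 2`
(bits `1, 2, 4, 8, 16`). A transvection is `tv(x, l) : y ↦ y + l(y) x` (`x ≠ 0`, `l ≠ 0` a mask, `l(x) = 0`); these are the `ψ ≠ 1` fixing 16 elements with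
`ψ² = 1` (define `Tr ψ := ∃ x l, ψ = tv(x, l)`, invariant under conjugation in `MulAut E0`). `Q = aE.range` contains exactly `t₁ = tv(1, 24)`, `t₂ = tv(2, 8)`,
`t₃ = tv(4, 16)` (`aE (inl (vi 0))`, `(vi 2)`, `(vi 4)`); they commute and the products `tᵢ tⱼ` are not transvections. Let `𝒯` be the transvections in `Ψ`.
(1) For `t ≠ u` in `𝒯`: `x ≠ x'`, `l ≠ l'`, `l(x') = l'(x)`. Otherwise `(t u)⁴ = 1`, `⟨t, u⟩` is a 2-group (dihedral: `u` inverts `zpowers (t u)`; or `t`, `u` lie in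
the 2-group `closure {t, u}`, all of whose elements are `(t u)^i` or `(t u)^i t`), conjugate it into `Q` (`SylIn.exists_conj_le`): the images commute and their product is not a
transvection; but `x = x'` or `l = l'` (with `l(x') = l'(x) = 0`) make `t u` a transvection, and `l(x') ≠ l'(x)` makes `t u ≠ u t`.
(2) Some `s ∈ 𝒯` does not commute with `t₃`. Otherwise: by `h2` `ψ t₃ ψ⁻¹ ≠ t₃` for `ψ` or `ψ⁻¹` (the fixed spaces differ), conjugating `⟨t₃, ψ t₃ ψ⁻¹⟩` into `Q` we see that `t₃` is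
`Ψ`-conjugate to `t₁` or `t₂`, so to both (`tt 4` swaps them); so every `s ∈ 𝒯` commutes with `t₁`, `t₂`, `t₃`; then `⟨Q₀, s⟩`, `Q₀ = ⟨t₁, t₂, t₃⟩`, is a 2-group, has at most
3 transvections, so `𝒯 = {t₁, t₂, t₃}` (or: by (1) and (3) such an `s` has `l(cᵢ) = lᵢ(x) = 0`, so `x ∈ ⟨c₁, c₂, c₃⟩`), `Ψ` permutes the centres, which generate `Z0`: against `h1`.
(3) `decide`: a `tv(x, l)` with `x ≥ 16` that satisfies (1) with the `tᵢ` and with its `Q`-conjugates is `Q`-conjugate to `tv(16, 5)`, `tv(16, 13)`, `tv(19, 29)` or `tv(19, 21)`.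
Let `β` fix `c₁, c₂, c₃` with `β a = a c₃ ^ i`, `β c = c (c₁ c₂) ^ j`, `(i, j) = (1, 0), (0, 0), (0, 1), (1, 1)` in these cases; conjugation by `β` fixes the `tᵢ`, and takes the four to
`s = tv(16, 13)`. In the coordinates `fm` (even subsets of six points) `t₁, t₂, t₃, s` are the transpositions `(0 1), (2 3), (4 5), (1 5)`; the conjugate of `s` by `β (aE (inr (tt 4))) β⁻¹` is
`(3 5)` or `(3 4)`. These generate `S₆`: with `Ψ' = β Ψ β⁻¹`, the `w : YK.HH` whose action lies in `Ψ'` form a subgroup containing `EH` and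
preimages of these transpositions (`pp_rf`, `conj_E`, `fm_ext`), so all of `YK.HH` (`pp_surj`, `mem_EH`, e.g. `Equiv.Perm.closure_of_isSwap_of_isPretransitive`, or words).
(4) Conversely by (1) (`decide`) the transvections in `Ψ'` are the 15 transpositions, so `ψ ∈ Ψ'` permutes the elements of `fm`-weight 2; the images of `{0, j}`, `j = 1, …, 5`,
have weight 2, their products too, and they are independent, so they are `{σ 0, σ j}` for a permutation `σ` (`decide` with nested quantifiers), and `ψ` is the action of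
`w` with `YK.pp w = σ`. -/
theorem psi {Ψ : Subgroup (MulAut E0)} (hQ : SylIn 2 aE.range Ψ)
    (h1 : ∃ ψ ∈ Ψ, ∃ x : E0, x.1.t = 1 ∧ (ψ x).1.t ≠ 1)
    (h2 : ∃ ψ ∈ Ψ, ∃ x : E0, x.1 = inr (tt 2) ∧ (ψ x).1.t.n < 2) :
    ∃ β : MulAut E0, ∀ ψ, ψ ∈ Ψ ↔ ∃ w : YK.HH, ∀ x : E0, mu (β (ψ x)) = w * mu (β x) * w⁻¹ := by
  have hQ' := hQ.map_of_injective (f := (MulAut.congr ε.symm).toMonoidHom) (MulAut.congr ε.symm).injective
  rw [MonoidHom.map_range] at hQ'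
  have k : ∀ (ψ : MulAut E0) (x : E0), eW ((MulAut.congr ε.symm).toMonoidHom ψ (ε.symm x)) = ψ x := fun ψ x => by
    rw [← ε_val]; simp
  have k0 : ∀ x : E0, eW (ε.symm x) = x := fun x => by rw [← ε_val, ε.apply_symm_apply]
  obtain ⟨β, hβ⟩ := psiW hQ' (by
    obtain ⟨ψ, a, x, b, c⟩ := h1
    exact ⟨_, ⟨ψ, a, rfl⟩, ε.symm x, by rwa [k0], by rwa [k]⟩) (by
    obtain ⟨ψ, a, x, b, c⟩ := h2
    refine ⟨_, ⟨ψ, a, rfl⟩, ?_⟩
    rwa [show ww 2 = ε.symm x from ε.eq_symm_apply.2 (Subtype.ext (by rw [b, ε_val]; decide +kernel)), k])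
  refine ⟨MulAut.congr ε β, fun ψ => ((mem_map_iff_mem (f := (MulAut.congr ε.symm).toMonoidHom)
    (MulAut.congr ε.symm).injective).symm.trans (hβ _)).trans ?_⟩
  rw [pp_surj.exists]
  refine exists_congr fun w => (act_iff w _).symm.trans ⟨fun h x => ?_, fun h y => ?_⟩
  · simpa [← ε_val] using h (β (ε.symm x))
  · simpa [← ε_val] using h (ε (β⁻¹ y))

end CL.O7
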